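import Mathlib
import Cfsg.Agent.H43.Omega
import Cfsg.Agent.H44.Omega
import Cfsg.Agent.H44.BCTwo
import Cfsg.Agent.H44.Cls.Realise

/-!
The spinor norm of an isometry of a bilinear space, `q` odd: sums, scaling, and the value for
isometries without eigenvalue `1`.
-/

set_option autoImplicit false

namespace H33.Iso9

open H43 Polynomial
open H44.Cls (Tri qc qc_mul qc_cases)

universe u

section General

variable {F : Type u} [Field F] {V : Type*} [AddCommGroup V] [Module F V] [FiniteDimensional F V]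
variable {V' : Type*} [AddCommGroup V'] [Module F V'] [FiniteDimensional F V']
variable {Q : QuadraticForm F V} {Q' : QuadraticForm F V'}

/-- The spinor norm as a homomorphism. -/
noncomputable def spinorHom (hQ : (polB Q).Nondegenerate) (h2 : (2 : F) ≠ 0) :
    orthGroup Q →* SqClass F :=
  MonoidHom.mk' spinor (H44.spinor_mul hQ (H43.reflGenerates_of_two_ne_zero h2))

/-- A homomorphism matching reflections of equal norm keeps the spinor norm. -/
theorem spinor_map (hQ : (polB Q).Nondegenerate) (hQ' : (polB Q').Nondegenerate) (h2 : (2 : F) ≠ 0)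
    (φ : orthGroup Q →* orthGroup Q')
    (hr : ∀ v, Q v ≠ 0 → ∃ v', Q' v' = Q v ∧ φ (refl Q v) = refl Q' v') (g : orthGroup Q) :
    spinor (φ g) = spinor g := by
  have e : (spinorHom hQ' h2).comp φ = spinorHom hQ h2 := by
    refine MonoidHom.eq_of_eqOn_dense (closure_reflSet hQ (H43.reflGenerates_of_two_ne_zero h2)) ?_
    rintro _ ⟨v, hv, rfl⟩
    obtain ⟨v', hv', hφ⟩ := hr v hv
    show spinor (φ (refl Q v)) = spinor (refl Q v)
    rw [hφ, spinor_refl hQ' (by rwa [hv']), spinor_refl hQ hv, hv']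
  exact DFunLike.congr_fun e g

end General

variable {F : Type u} [Field F]

/-- The quadratic form of a bilinear space. -/
noncomputable def qf (T : Tri F (1 : F)) : QuadraticForm F T.V := ((2 : F)⁻¹ • T.B).toQuadraticMap

theorem qf_apply (T : Tri F (1 : F)) (x : T.V) : qf T x = (2 : F)⁻¹ * T.B x x := rfl

theorem sym' (T : Tri F (1 : F)) (x y : T.V) : T.B y x = T.B x y := by rw [T.sym, one_mul]

theorem polB_qf (h2 : (2 : F) ≠ 0) (T : Tri F (1 : F)) (x y : T.V) : polB (qf T) x y = T.B x y := by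
  rw [polB_apply, QuadraticMap.polar, qf_apply, qf_apply, qf_apply]
  simp only [map_add, LinearMap.add_apply, sym' T x y]
  field_simp
  ring

theorem qf_nd (h2 : (2 : F) ≠ 0) (T : Tri F (1 : F)) : (polB (qf T)).Nondegenerate :=
  ⟨fun x hx => T.nd x fun y => by rw [← polB_qf h2]; exact hx y,
    fun y hy => T.nd_right y fun x => by rw [← polB_qf h2]; exact hy x⟩

/-- The isometry as an element of the orthogonal group. -/
noncomputable def og (T : Tri F (1 : F)) : orthGroup (qf T) :=
  ⟨T.gE, fun x => by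
    rw [qf_apply, qf_apply]
    show _ * T.B (T.g x) (T.g x) = _
    rw [T.iso]⟩

theorem og_apply (T : Tri F (1 : F)) (x : T.V) : (og T).1 x = T.g x := rfl

theorem og_pow_apply (T : Tri F (1 : F)) (k : ℕ) (x : T.V) : ((og T) ^ k).1 x = (T.g ^ k) x := by
  induction k generalizing x with
  | zero => rfl
  | succ k ih => rw [pow_succ, pow_succ, orth_mul_apply, Module.End.mul_apply, ← og_apply T x, ih]

theorem og_pow_eq_one {T : Tri F (1 : F)} {k : ℕ} (h : T.g ^ k = 1) : og T ^ k = 1 :=
  orth_ext fun x => by rw [og_pow_apply, h]; rfl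

/-- Membership in the kernel of determinant and spinor norm. -/
def InOm (T : Tri F (1 : F)) : Prop := LinearMap.det T.g = 1 ∧ spinor (og T) = 1

theorem det_sum (T T' : Tri F (1 : F)) :
    LinearMap.det (T.sum T').g = LinearMap.det T.g * LinearMap.det T'.g :=
  LinearMap.det_prodMap T.g T'.g

/-- The first projection of a sum. -/
def pr1 (T T' : Tri F (1 : F)) : (T.sum T').V →ₗ[F] T.V := LinearMap.fst F T.V T'.V

/-- The second projection of a sum. -/
def pr2 (T T' : Tri F (1 : F)) : (T.sum T').V →ₗ[F] T'.V := LinearMap.snd F T.V T'.V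

/-- A vector of a sum. -/
def mkS (T T' : Tri F (1 : F)) (x : T.V) (y : T'.V) : (T.sum T').V := Prod.mk x y

theorem pr1_mk (T T' : Tri F (1 : F)) (x : T.V) (y : T'.V) : pr1 T T' (mkS T T' x y) = x := rfl

theorem pr2_mk (T T' : Tri F (1 : F)) (x : T.V) (y : T'.V) : pr2 T T' (mkS T T' x y) = y := rfl

theorem sum_ext {T T' : Tri F (1 : F)} {x y : (T.sum T').V} (h : pr1 T T' x = pr1 T T' y)
    (h' : pr2 T T' x = pr2 T T' y) : x = y := Prod.ext h h'

theorem sum_B' (T T' : Tri F (1 : F)) (x y : (T.sum T').V) :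
    (T.sum T').B x y = T.B (pr1 T T' x) (pr1 T T' y) + T'.B (pr2 T T' x) (pr2 T T' y) := rfl

theorem qf_sum (T T' : Tri F (1 : F)) (x : (T.sum T').V) :
    qf (T.sum T') x = qf T (pr1 T T' x) + qf T' (pr2 T T' x) := by
  rw [qf_apply, qf_apply, qf_apply, sum_B', mul_add]

/-- Left inclusion of orthogonal groups into those of a sum. -/
noncomputable def inlHom (T T' : Tri F (1 : F)) : orthGroup (qf T) →* orthGroup (qf (T.sum T')) where
  toFun a := ⟨(a.1.prodCongr (LinearEquiv.refl F T'.V) : (T.V × T'.V) ≃ₗ[F] (T.V × T'.V)), fun x => by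
    show qf (T.sum T') (mkS T T' (a.1 (pr1 T T' x)) (pr2 T T' x)) = _
    rw [qf_sum, qf_sum, pr1_mk, pr2_mk, orth_qmap]⟩
  map_one' := orth_ext fun x => rfl
  map_mul' a b := orth_ext fun x => rfl

/-- Right inclusion of orthogonal groups into those of a sum. -/
noncomputable def inrHom (T T' : Tri F (1 : F)) : orthGroup (qf T') →* orthGroup (qf (T.sum T')) where
  toFun a := ⟨((LinearEquiv.refl F T.V).prodCongr a.1 : (T.V × T'.V) ≃ₗ[F] (T.V × T'.V)), fun x => by
    show qf (T.sum T') (mkS T T' (pr1 T T' x) (a.1 (pr2 T T' x))) = _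
    rw [qf_sum, qf_sum, pr1_mk, pr2_mk, orth_qmap]⟩
  map_one' := orth_ext fun x => rfl
  map_mul' a b := orth_ext fun x => rfl

theorem og_sum (T T' : Tri F (1 : F)) : og (T.sum T') = inlHom T T' (og T) * inrHom T T' (og T') :=
  orth_ext fun x => rfl

theorem spinor_inl (h2 : (2 : F) ≠ 0) (T T' : Tri F (1 : F)) (a : orthGroup (qf T)) :
    spinor (inlHom T T' a) = spinor a := by
  refine spinor_map (qf_nd h2 T) (qf_nd h2 _) h2 (inlHom T T') (fun v hv => ⟨mkS T T' v 0, ?_, ?_⟩) a
  · rw [qf_sum, pr1_mk, pr2_mk, map_zero, add_zero]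
  · refine orth_ext fun x => ?_
    show mkS T T' ((refl (qf T) v).1 (pr1 T T' x)) (pr2 T T' x) = _
    rw [refl_apply, refl_apply, polB_qf h2, polB_qf h2, qf_sum, sum_B', pr1_mk, pr2_mk, map_zero, map_zero,
      add_zero, add_zero]
    refine sum_ext ?_ ?_ <;> simp [map_sub, map_smul, pr1_mk, pr2_mk]

theorem spinor_inr (h2 : (2 : F) ≠ 0) (T T' : Tri F (1 : F)) (a : orthGroup (qf T')) :
    spinor (inrHom T T' a) = spinor a := by
  refine spinor_map (qf_nd h2 T') (qf_nd h2 _) h2 (inrHom T T') (fun v hv => ⟨mkS T T' 0 v, ?_, ?_⟩) a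
  · rw [qf_sum, pr1_mk, pr2_mk, map_zero, zero_add]
  · refine orth_ext fun x => ?_
    show mkS T T' (pr1 T T' x) ((refl (qf T') v).1 (pr2 T T' x)) = _
    rw [refl_apply, refl_apply, polB_qf h2, polB_qf h2, qf_sum, sum_B', pr1_mk, pr2_mk, map_zero, map_zero,
      zero_add, zero_add]
    refine sum_ext ?_ ?_ <;> simp [map_sub, map_smul, pr1_mk, pr2_mk]

theorem spinor_sum (h2 : (2 : F) ≠ 0) (T T' : Tri F (1 : F)) :
    spinor (og (T.sum T')) = spinor (og T) * spinor (og T') := by
  rw [og_sum, H44.spinor_mul (qf_nd h2 _) (H43.reflGenerates_of_two_ne_zero h2), spinor_inl h2, spinor_inr h2]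

theorem InOm.sum (h2 : (2 : F) ≠ 0) {T T' : Tri F (1 : F)} (h : InOm T) (h' : InOm T') : InOm (T.sum T') :=
  ⟨by rw [det_sum, h.1, h'.1, one_mul], by rw [spinor_sum h2, h.2, h'.2, one_mul]⟩

theorem InOm.of_sum (h2 : (2 : F) ≠ 0) {T T' : Tri F (1 : F)} (h : InOm (T.sum T')) (h' : InOm T') : InOm T :=
  ⟨by simpa [det_sum, h'.1] using h.1, by simpa [spinor_sum h2, h'.2] using h.2⟩

theorem InOm.eqv (h2 : (2 : F) ≠ 0) {T T' : Tri F (1 : F)} (h : InOm T) (he : T.Eqv T') : InOm T' := by
  obtain ⟨e, h1, hB⟩ := he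
  let φ : orthGroup (qf T) →* orthGroup (qf T') :=
    { toFun := fun a => ⟨e.symm.trans (a.1.trans e), fun x => by
        show qf T' (e (a.1 (e.symm x))) = _
        rw [qf_apply, hB, ← qf_apply, orth_qmap, qf_apply, qf_apply, ← hB, e.apply_symm_apply]⟩
      map_one' := orth_ext fun x => e.apply_symm_apply x
      map_mul' := fun a b => orth_ext fun x => by
        show e ((a * b).1 (e.symm x)) = e (a.1 (e.symm (e (b.1 (e.symm x)))))
        rw [e.symm_apply_apply]; rfl }
  have hog : og T' = φ (og T) := orth_ext fun x => by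
    show T'.g x = e (T.g (e.symm x))
    rw [h1, e.apply_symm_apply]
  have hg : T'.g = e.conj T.g := LinearMap.ext fun x => by
    show T'.g x = e (T.g (e.symm x))
    rw [h1, e.apply_symm_apply]
  refine ⟨?_, ?_⟩
  · rw [hg, LinearEquiv.conj_apply, LinearMap.comp_assoc, LinearMap.det_conj, h.1]
  rw [hog, spinor_map (qf_nd h2 T) (qf_nd h2 T') h2 φ (fun v hv => ⟨e v, ?_, ?_⟩), h.2]
  · rw [qf_apply, qf_apply, hB]
  · refine orth_ext fun x => ?_
    show e ((refl (qf T) v).1 (e.symm x)) = _
    rw [refl_apply, refl_apply, map_sub, map_smul, e.apply_symm_apply, polB_qf h2, polB_qf h2, qf_apply,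
      qf_apply, ← hB v v, ← hB (e.symm x) v, e.apply_symm_apply]

/-- The identity onto the scaled space. -/
def upS (T : Tri F (1 : F)) {c : F} (hc : c ≠ 0) : T.V →ₗ[F] (T.scale hc).V := LinearMap.id

/-- The identity from the scaled space. -/
def dnS (T : Tri F (1 : F)) {c : F} (hc : c ≠ 0) : (T.scale hc).V →ₗ[F] T.V := LinearMap.id

theorem dn_up (T : Tri F (1 : F)) {c : F} (hc : c ≠ 0) (x : T.V) : dnS T hc (upS T hc x) = x := rfl

theorem up_dn (T : Tri F (1 : F)) {c : F} (hc : c ≠ 0) (x : (T.scale hc).V) : upS T hc (dnS T hc x) = x := rfl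

theorem scale_B' (T : Tri F (1 : F)) {c : F} (hc : c ≠ 0) (x y : (T.scale hc).V) :
    (T.scale hc).B x y = c * T.B (dnS T hc x) (dnS T hc y) := rfl

theorem InOm.scale (h2 : (2 : F) ≠ 0) {T : Tri F (1 : F)} (h : InOm T) {c : F} (hc : c ≠ 0) :
    InOm (T.scale hc) := by
  have hq : ∀ x : (T.scale hc).V, qf (T.scale hc) x = c * qf T (dnS T hc x) := fun x => by
    rw [qf_apply, qf_apply, scale_B']
    ring
  let φ : orthGroup (qf T) →* orthGroup (qf (T.scale hc)) :=
    { toFun := fun a => ⟨(a.1 : T.V ≃ₗ[F] T.V), fun x => by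
        show qf (T.scale hc) (upS T hc (a.1 (dnS T hc x))) = qf (T.scale hc) x
        rw [hq, hq, dn_up, orth_qmap]⟩
      map_one' := rfl
      map_mul' := fun _ _ => rfl }
  refine ⟨h.1, ?_⟩
  have key : ∀ a ∈ specialOrth (qf T), spinor (φ a) = spinor a := by
    rw [specialOrth_eq_closure (qf_nd h2 T) h2]
    intro a ha
    have : (spinorHom (qf_nd h2 (T.scale hc)) h2).comp φ a = spinorHom (qf_nd h2 T) h2 a := by
      refine MonoidHom.eqOn_closure ?_ ha
      rintro _ ⟨x, y, hx, hy, rfl⟩
      have hr : ∀ v : T.V, φ (refl (qf T) v) = refl (qf (T.scale hc)) (upS T hc v) := fun v => orth_ext fun z => by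
        show upS T hc ((refl (qf T) v).1 (dnS T hc z)) = _
        rw [refl_apply, refl_apply, polB_qf h2, polB_qf h2, hq, scale_B', dn_up, map_sub, map_smul, up_dn]
        congr 2
        field_simp
      have hx' : qf (T.scale hc) (upS T hc x) ≠ 0 := by rw [hq, dn_up]; exact mul_ne_zero hc hx
      have hy' : qf (T.scale hc) (upS T hc y) ≠ 0 := by rw [hq, dn_up]; exact mul_ne_zero hc hy
      show spinor (φ (refl (qf T) x * refl (qf T) y)) = spinor (refl (qf T) x * refl (qf T) y)
      rw [map_mul, hr, hr, H44.spinor_mul (qf_nd h2 _) (H43.reflGenerates_of_two_ne_zero h2),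
        H44.spinor_mul (qf_nd h2 _) (H43.reflGenerates_of_two_ne_zero h2), spinor_refl (qf_nd h2 _) hx',
        spinor_refl (qf_nd h2 _) hy', spinor_refl (qf_nd h2 _) hx, spinor_refl (qf_nd h2 _) hy, hq, hq,
        dn_up, dn_up, sqc_mul hc hx, sqc_mul hc hy, mul_mul_mul_comm, sqClass_mul_self, one_mul]
    exact this
  have hog : og (T.scale hc) = φ (og T) := orth_ext fun x => rfl
  rw [hog, key _ (mem_specialOrth.2 (Units.ext (by rw [coe_detHom, Units.val_one]; exact h.1))), h.2]

theorem qc_eq_one_iff (x : F) : qc x = 1 ↔ IsSquare x := by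
  unfold qc
  split_ifs with h <;> simp [h]

theorem det_sq (T : Tri F (1 : F)) : LinearMap.det T.g * LinearMap.det T.g = 1 := by
  classical
  let b := Module.finBasis F T.V
  have hA : (LinearMap.toMatrix b b T.g).transpose * T.gram b * LinearMap.toMatrix b b T.g = T.gram b := by
    have hG : T.gram b = LinearMap.BilinForm.toMatrix b T.B := by
      ext i j
      rw [LinearMap.BilinForm.toMatrix_apply]; rfl
    rw [hG, ← LinearMap.BilinForm.toMatrix_comp b b]
    congr 1
    exact LinearMap.ext₂ fun x y => T.iso x y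
  have := congrArg Matrix.det hA
  rw [Matrix.det_mul, Matrix.det_mul, Matrix.det_transpose, LinearMap.det_toMatrix] at this
  exact mul_right_cancel₀ (T.gram_det_ne b) (by linear_combination this)

/-- An isometry of odd order lies in the kernel. -/
theorem inOm_of_odd (h2 : (2 : F) ≠ 0) {T : Tri F (1 : F)} {k : ℕ} (hk : Odd k) (h : T.g ^ k = 1) : InOm T := by
  obtain ⟨m, rfl⟩ := hk
  refine ⟨?_, ?_⟩
  · have := congrArg LinearMap.det h
    rwa [map_pow, map_one, pow_succ, pow_mul, sq, det_sq, one_pow, one_mul] at this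
  · have := congrArg (spinorHom (qf_nd h2 T) h2) (og_pow_eq_one h)
    rwa [map_pow, map_one, pow_succ, pow_mul, sq, sqClass_mul_self, one_pow, one_mul] at this

theorem det_free {T : Tri F (1 : F)} (h1 : T.g.charpoly.eval 1 ≠ 0) :
    LinearMap.det T.g = (-1) ^ Module.finrank F T.V := by
  classical
  let b := Module.finBasis F T.V
  set A := LinearMap.toMatrix b b T.g with hAdef
  have hA : A.transpose * T.gram b * A = T.gram b := by
    have hG : T.gram b = LinearMap.BilinForm.toMatrix b T.B := by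
      ext i j
      rw [LinearMap.BilinForm.toMatrix_apply]; rfl
    rw [hG, hAdef, ← LinearMap.BilinForm.toMatrix_comp b b]
    congr 1
    exact LinearMap.ext₂ fun x y => T.iso x y
  have h1' : (1 - A).det ≠ 0 := by
    have := h1
    rwa [← LinearMap.charpoly_toMatrix T.g b, Matrix.eval_charpoly, map_one, ← hAdef] at this
  have e : A.transpose * T.gram b * (A - 1) = (1 - A).transpose * T.gram b := by
    rw [mul_sub, hA, mul_one, Matrix.transpose_sub, Matrix.transpose_one, sub_mul, one_mul]
  have hd := congrArg Matrix.det e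
  rw [show A - 1 = -(1 - A) from (neg_sub _ _).symm, Matrix.det_mul, Matrix.det_mul, Matrix.det_mul,
    Matrix.det_transpose, Matrix.det_transpose, Matrix.det_neg, Fintype.card_fin] at hd
  rw [← LinearMap.det_toMatrix b, ← hAdef]
  have hs : ((-1 : F) ^ Module.finrank F T.V) * ((-1 : F) ^ Module.finrank F T.V) = 1 := by
    rw [← mul_pow]; norm_num
  refine mul_right_cancel₀ (mul_ne_zero h1' (T.gram_det_ne b)) ?_
  linear_combination ((-1 : F) ^ Module.finrank F T.V) * hd -
    A.det * (T.gram b).det * (1 - A).det * hs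

/-- The spinor norm of an isometry without eigenvalue `1`. -/
theorem spinor_free (h2 : (2 : F) ≠ 0) {T : Tri F (1 : F)} (h1 : T.g.charpoly.eval 1 ≠ 0) :
    spinor (og T) = sqc ((T.gram (Module.finBasis F T.V)).det * T.g.charpoly.eval 1) := by
  classical
  let b := Module.finBasis F T.V
  set M := LinearMap.toMatrix b b (resMap (og T)) with hMdef
  have hP : T.g.charpoly.eval 1 = M.det := by
    rw [hMdef, show resMap (og T) = (LinearMap.id - T.g : T.V →ₗ[F] T.V) from rfl, map_sub,
      LinearMap.toMatrix_id, ← LinearMap.charpoly_toMatrix T.g b, Matrix.eval_charpoly, map_one]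
  have hM0 : M.det ≠ 0 := hP ▸ h1
  let w : Fin (Module.finrank F T.V) → T.V := fun i => Matrix.toLin b b M⁻¹ (b i)
  have hw : ∀ i, resMap (og T) (w i) = b i := fun i => by
    show resMap (og T) (Matrix.toLin b b M⁻¹ (b i)) = b i
    rw [← Matrix.toLin_toMatrix b b (resMap (og T)), ← LinearMap.comp_apply, ← Matrix.toLin_mul b b b,
      ← hMdef, Matrix.mul_nonsing_inv M (isUnit_iff_ne_zero.2 hM0), Matrix.toLin_one, LinearMap.id_apply]
  have hspan : Submodule.span F (Set.range b) = resid (og T) := by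
    rw [b.span_eq, eq_comm, eq_top_iff, ← b.span_eq, Submodule.span_le]
    rintro _ ⟨i, rfl⟩
    exact ⟨w i, hw i⟩
  rw [spinor, ← sqc_wallDisc_of_family (qf_nd h2 T) (og T) b w b.linearIndependent hspan hw]
  have hG : (Matrix.of fun i j => polB (qf T) (w i) (b j)) = (M⁻¹).transpose * T.gram b := by
    ext i j
    rw [Matrix.of_apply, polB_qf h2, Matrix.mul_apply]
    show T.B (Matrix.toLin b b M⁻¹ (b i)) (b j) = _
    rw [Matrix.toLin_self, map_sum, LinearMap.sum_apply]
    exact Finset.sum_congr rfl fun k _ => by rw [map_smul, LinearMap.smul_apply]; rfl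
  rw [hG, Matrix.det_mul, Matrix.det_transpose, hP,
    show M⁻¹.det * (T.gram b).det = (M⁻¹.det * M⁻¹.det) * ((T.gram b).det * M.det) by
      rw [Matrix.det_nonsing_inv, Ring.inverse_eq_inv']; field_simp,
    sqc_sq_mul (by rw [Matrix.det_nonsing_inv, Ring.inverse_eq_inv']; exact inv_ne_zero hM0)
      (mul_ne_zero (T.gram_det_ne b) hM0)]

/-- Membership for an isometry without eigenvalue `1`. -/
theorem inOm_free_iff [Finite F] (h2 : (2 : F) ≠ 0) {T : Tri F (1 : F)} (h1 : T.g.charpoly.eval 1 ≠ 0)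
    (hev : Even (Module.finrank F T.V)) : InOm T ↔ T.chi * qc (T.g.charpoly.eval 1) = 1 := by
  rw [InOm, det_free h1, hev.neg_one_pow, spinor_free h2 h1, sqc_eq_one_iff (mul_ne_zero (T.gram_det_ne _) h1),
    ← qc_eq_one_iff, qc_mul (T.gram_det_ne _) h1]
  exact and_iff_right rfl

/-- The discriminant in the absence of eigenvalues `±1`. -/
theorem chi_free [Fintype F] (hodd : Odd (Fintype.card F)) {T : Tri F (1 : F)}
    (h1 : T.g.charpoly.eval 1 ≠ 0) (hn1 : T.g.charpoly.eval (-1) ≠ 0)
    (hev : Even (Module.finrank F T.V)) : T.chi = qc (T.g.charpoly.eval 1 * T.g.charpoly.eval (-1)) := by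
  classical
  let b := Module.finBasis F T.V
  set A := LinearMap.toMatrix b b T.g with hAdef
  have hA : A.transpose * T.gram b * A = T.gram b := by
    have hG : T.gram b = LinearMap.BilinForm.toMatrix b T.B := by
      ext i j
      rw [LinearMap.BilinForm.toMatrix_apply]; rfl
    rw [hG, hAdef, ← LinearMap.BilinForm.toMatrix_comp b b]
    congr 1
    exact LinearMap.ext₂ fun x y => T.iso x y
  have hdA : A.det = 1 := by
    rw [hAdef, LinearMap.det_toMatrix, det_free h1, hev.neg_one_pow]
  have hu : IsUnit A.det := by rw [hdA]; exact isUnit_one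
  set G := T.gram b with hGdef
  have hGt : G.transpose = G := by
    ext i j
    exact sym' T (b i) (b j)
  set K := (A - A⁻¹).transpose * G with hKdef
  have hKalt : K.transpose = -K := by
    have e1 : G * A⁻¹ = A.transpose * G := by
      calc G * A⁻¹ = (A.transpose * G * A) * A⁻¹ := by rw [hA]
        _ = _ := by rw [mul_assoc _ A, Matrix.mul_nonsing_inv A hu, mul_one]
    have e2 : (A⁻¹).transpose * G = G * A := by
      have := congrArg Matrix.transpose e1
      rwa [Matrix.transpose_mul, Matrix.transpose_mul, Matrix.transpose_transpose, hGt] at this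
    rw [hKdef, Matrix.transpose_mul, Matrix.transpose_transpose, hGt, mul_sub, e1, Matrix.transpose_sub, sub_mul, e2]
    abel
  have hdet : (A - A⁻¹).det = T.g.charpoly.eval 1 * T.g.charpoly.eval (-1) := by
    rw [← LinearMap.charpoly_toMatrix T.g b, Matrix.eval_charpoly, Matrix.eval_charpoly, map_one, map_neg, map_one,
      ← hAdef, ← Matrix.det_mul,
      show (1 - A) * (-1 - A) = (A - A⁻¹) * A by
        rw [sub_mul (A) A⁻¹ A, Matrix.nonsing_inv_mul A hu]
        noncomm_ring,
      Matrix.det_mul, hdA, mul_one]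
  have hK0 : K.det ≠ 0 := by
    rw [hKdef, Matrix.det_mul, Matrix.det_transpose, hdet]
    exact mul_ne_zero (mul_ne_zero h1 hn1) (T.gram_det_ne b)
  have h2 := H43.two_ne_zero_of_odd_card hodd
  have halt : (Matrix.toBilin' K).IsAlt := fun x => by
    have e : Matrix.toBilin' K x x = -(Matrix.toBilin' K x x) := by
      conv_lhs =>
        rw [Matrix.toBilin'_apply', Matrix.dotProduct_mulVec, ← Matrix.mulVec_transpose, hKalt,
          Matrix.neg_mulVec, neg_dotProduct, dotProduct_comm, ← Matrix.toBilin'_apply']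
    have : (2 : F) * Matrix.toBilin' K x x = 0 := by linear_combination e
    exact (mul_eq_zero.1 this).resolve_left h2
  have hsq := H44.isSquare_det_alt hodd halt
    (LinearMap.BilinForm.nondegenerate_toBilin'_of_det_ne_zero' K hK0)
  rw [LinearMap.BilinForm.toMatrix'_toBilin', hKdef, Matrix.det_mul, Matrix.det_transpose, hdet,
    ← qc_eq_one_iff, qc_mul (mul_ne_zero h1 hn1) (T.gram_det_ne b)] at hsq
  show qc (T.gram b).det = _
  rcases qc_cases (T.g.charpoly.eval 1 * T.g.charpoly.eval (-1)) with a | a <;> rw [a] at hsq ⊢ <;> omega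

end H33.Iso9
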