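import Mathlib
import Cfsg.Agent.H33.Iso9.Form
import Cfsg.Agent.H44.Cls.Target
import Cfsg.Agent.H47.UniTargets
import Cfsg.Agent.H43.Bridge

/-!
Element orders of `Ω₉` and of `V : Ω₈⁻` in terms of isometries: sums, the split at an eigenvalue
`±1`, unipotent pieces, and the two translation constructions.
-/

set_option autoImplicit false

namespace H33.Iso9

open H43 Polynomial
open H44.Cls (Tri qc qc_mul qc_cases)

universe u

variable {F : Type u} [Field F]

theorem sum_pow_apply (T T' : Tri F (1 : F)) (k : ℕ) (x : (T.sum T').V) :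
    ((T.sum T').g ^ k) x = mkS T T' ((T.g ^ k) (pr1 T T' x)) ((T'.g ^ k) (pr2 T T' x)) := by
  induction k generalizing x with
  | zero => rfl
  | succ k ih =>
    rw [pow_succ, pow_succ, pow_succ, Module.End.mul_apply, Module.End.mul_apply, Module.End.mul_apply, ih]
    rfl

theorem sum_pow_eq_one_iff (T T' : Tri F (1 : F)) (k : ℕ) :
    (T.sum T').g ^ k = 1 ↔ T.g ^ k = 1 ∧ T'.g ^ k = 1 := by
  constructor
  · intro h
    refine ⟨LinearMap.ext fun x => ?_, LinearMap.ext fun y => ?_⟩
    · have := congrArg (pr1 T T') ((sum_pow_apply T T' k (mkS T T' x 0)).symm.trans (LinearMap.congr_fun h _))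
      rwa [pr1_mk, pr1_mk] at this
    · have := congrArg (pr2 T T') ((sum_pow_apply T T' k (mkS T T' 0 y)).symm.trans (LinearMap.congr_fun h _))
      rwa [pr2_mk, pr2_mk] at this
  · rintro ⟨h, h'⟩
    refine LinearMap.ext fun x => ?_
    rw [sum_pow_apply, h, h']
    rfl

theorem orderOf_sum (T T' : Tri F (1 : F)) :
    orderOf (T.sum T').g = Nat.lcm (orderOf T.g) (orderOf T'.g) := by
  refine Nat.dvd_antisymm ?_ ?_
  · rw [orderOf_dvd_iff_pow_eq_one, sum_pow_eq_one_iff, ← orderOf_dvd_iff_pow_eq_one,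
      ← orderOf_dvd_iff_pow_eq_one]
    exact ⟨Nat.dvd_lcm_left _ _, Nat.dvd_lcm_right _ _⟩
  · have h := (sum_pow_eq_one_iff T T' _).1 (pow_orderOf_eq_one (T.sum T').g)
    exact Nat.lcm_dvd (orderOf_dvd_iff_pow_eq_one.2 h.1) (orderOf_dvd_iff_pow_eq_one.2 h.2)

theorem finrank_sum (T T' : Tri F (1 : F)) :
    Module.finrank F (T.sum T').V = Module.finrank F T.V + Module.finrank F T'.V :=
  Module.finrank_prod

theorem orderOf_eqv {T T' : Tri F (1 : F)} (h : T.Eqv T') : orderOf T.g = orderOf T'.g := by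
  obtain ⟨e, h1, -⟩ := h
  refine orderOf_eq_orderOf_iff.2 fun k => ?_
  have hk : ∀ x, e ((T.g ^ k) x) = (T'.g ^ k) (e x) := by
    induction k with
    | zero => intro x; rfl
    | succ k ih =>
      intro x
      rw [pow_succ', pow_succ', Module.End.mul_apply, Module.End.mul_apply, h1, ih]
  constructor <;> intro hh <;> refine LinearMap.ext fun x => ?_
  · obtain ⟨y, rfl⟩ := e.surjective x
    rw [← hk, hh]; rfl
  · apply e.injective
    rw [hk, hh]; rfl

theorem finrank_eqv {T T' : Tri F (1 : F)} (h : T.Eqv T') :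
    Module.finrank F T.V = Module.finrank F T'.V := by
  obtain ⟨e, -, -⟩ := h
  exact e.finrank_eq

theorem orderOf_g_pos [Finite F] (T : Tri F (1 : F)) : 0 < orderOf T.g := by
  have : Finite T.V := Module.finite_of_finite F
  have : Finite (orthGroup (qf T)) := finite_orthGroup
  refine IsOfFinOrder.orderOf_pos (isOfFinOrder_iff_pow_eq_one.2 ⟨orderOf (og T), orderOf_pos _, ?_⟩)
  refine LinearMap.ext fun x => ?_
  rw [← og_pow_apply, pow_orderOf_eq_one]
  rfl

/-- The split at an eigenvalue `c = ± 1`. -/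
theorem exists_fit (T : Tri F (1 : F)) {c : F} (hc : c * c = 1) :
    ∃ T0 T1 : Tri F (1 : F), T.Eqv (T0.sum T1) ∧
      (T0.g - c • (1 : Module.End F T0.V)) ^ Module.finrank F T.V = 0 ∧ T1.g.charpoly.eval c ≠ 0 := by
  classical
  set n := Module.finrank F T.V with hn
  set p : F[X] := (X - C c) ^ n with hp
  set N : Module.End F T.V := T.g - c • 1 with hN
  have hXN : aeval T.g (X - C c) = N := by
    rw [map_sub, aeval_X, aeval_C, Algebra.algebraMap_eq_smul_one]
  have hpN : aeval T.g p = N ^ n := by rw [hp, map_pow, hXN]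
  set M := LinearMap.ker (N ^ n) with hM
  have hstab : T.Stable M := fun x hx => by
    rw [hM, LinearMap.mem_ker, ← hpN] at hx ⊢
    rw [show T.g x = aeval T.g (X : F[X]) x by rw [aeval_X], ← Module.End.mul_apply, ← map_mul, mul_comm,
      map_mul, Module.End.mul_apply, hx, map_zero]
  have hdis : Disjoint M (LinearMap.range (N ^ n)) := by
    rw [Submodule.disjoint_def]
    rintro x hx ⟨z, rfl⟩
    have : z ∈ LinearMap.ker (N ^ (n + n)) := by
      rw [LinearMap.mem_ker, pow_add, Module.End.mul_apply]; exact hx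
    rw [hn, Module.End.ker_pow_eq_ker_pow_finrank_of_le (f := N) (Nat.le_add_left _ _)] at this
    exact this
  have htop : M ⊔ LinearMap.range (N ^ n) = ⊤ := by
    apply Submodule.eq_top_of_finrank_eq
    have h1 := Submodule.finrank_sup_add_finrank_inf_eq M (LinearMap.range (N ^ n))
    rw [hdis.eq_bot, finrank_bot, add_zero] at h1
    rw [h1, add_comm, LinearMap.finrank_range_add_finrank_ker]
  have hgi : ∀ x ∈ M, aeval T.gi p x = 0 := fun x hx => by
    have e : aeval T.gi (X - C c) = (-c) • (T.gi * N) := by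
      rw [map_sub, aeval_X, aeval_C, Algebra.algebraMap_eq_smul_one, hN, mul_sub, T.gi_mul_g, mul_smul_comm,
        mul_one, smul_sub, neg_smul, neg_smul, smul_smul, hc, one_smul]
      abel
    have hco : Commute T.gi N := by
      rw [hN]
      have hgg : Commute T.gi T.g := T.gi_mul_g.trans T.g_mul_gi.symm
      exact hgg.sub_right ((Commute.one_right _).smul_right c)
    rw [hp, map_pow, e, _root_.smul_pow, hco.mul_pow, LinearMap.smul_apply, Module.End.mul_apply,
      show (N ^ n) x = 0 from hx, map_zero, smul_zero]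
  have horth : ∀ x ∈ M, ∀ y ∈ LinearMap.range (N ^ n), T.B y x = 0 := by
    rintro x hx _ ⟨z, rfl⟩
    rw [← hpN, T.adj, hgi x hx, map_zero]
  have hnd : T.NonDeg M := fun x hx h => T.nd x fun y => by
    obtain ⟨a, ha, b, hb, rfl⟩ := Submodule.mem_sup.1 (htop ▸ Submodule.mem_top : y ∈ M ⊔ LinearMap.range (N ^ n))
    rw [map_add, h a ha, zero_add, sym' T b x, horth x hx b hb]
  refine ⟨T.res M hstab hnd, T.res (T.perp M) hstab.perp (Tri.nonDeg_perp hnd), Tri.eqv_sum_res hstab hnd, ?_, ?_⟩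
  · have key : ∀ (k : ℕ) (x : (T.res M hstab hnd).V),
        Tri.inc ((((T.res M hstab hnd).g - c • (1 : Module.End F (T.res M hstab hnd).V)) ^ k) x) =
          (N ^ k) (Tri.inc x) := by
      intro k
      induction k with
      | zero => intro x; rfl
      | succ k ih =>
        intro x
        rw [pow_succ, pow_succ, Module.End.mul_apply, Module.End.mul_apply, ih]
        rfl
    refine LinearMap.ext fun x => Tri.inc_injective ?_
    rw [key, LinearMap.zero_apply, map_zero]
    exact Tri.inc_mem x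
  · intro h0
    obtain ⟨x, hx⟩ := ((Module.End.hasEigenvalue_iff_isRoot_charpoly _ c).2 h0).exists_hasEigenvector
    obtain ⟨hxg, hx0⟩ := hx
    rw [Module.End.mem_eigenspace_iff] at hxg
    have hg : T.g (Tri.inc x) = c • Tri.inc x := by rw [← Tri.inc_g, hxg, map_smul]
    refine hx0 (Tri.inc_injective ?_)
    rw [map_zero]
    have hxM : Tri.inc x ∈ M := by
      show (N ^ n) (Tri.inc x) = 0
      rcases Nat.eq_zero_or_pos n with h | h
      · have : Subsingleton T.V := Module.finrank_zero_iff.1 (hn ▸ h)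
        exact Subsingleton.elim _ _
      · obtain ⟨k, hk⟩ := Nat.exists_eq_succ_of_ne_zero h.ne'
        rw [hk, pow_succ, Module.End.mul_apply,
          show N (Tri.inc x) = 0 by rw [hN, LinearMap.sub_apply, LinearMap.smul_apply, Module.End.one_apply, hg, sub_self],
          map_zero]
    exact hnd _ hxM fun y hy => by rw [sym' T y]; exact (Tri.inc_mem x) y hy

/-! ### Unipotent isometries -/

theorem sub_pow_aeval {p : ℕ} [Fact p.Prime] [CharP F p] {M : Type*} [AddCommGroup M] [Module F M]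
    (g : Module.End F M) (c : F) (f : ℕ) :
    (g - c • 1) ^ p ^ f = g ^ p ^ f - c ^ p ^ f • 1 := by
  have e : (X - C c : F[X]) ^ p ^ f = X ^ p ^ f - C (c ^ p ^ f) := by rw [sub_pow_char_pow, C_pow]
  have := congrArg (aeval g) e
  simpa [Algebra.algebraMap_eq_smul_one, _root_.smul_pow] using this

theorem geom_char_pow {p : ℕ} [hp : Fact p.Prime] [CharP F p] {M : Type*} [AddCommGroup M] [Module F M]
    (g : Module.End F M) (f : ℕ) :
    ∑ i ∈ Finset.range (p ^ f), g ^ i = (g - 1) ^ (p ^ f - 1) := by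
  have hpos : 0 < p ^ f := pow_pos hp.out.pos f
  have e : ∑ i ∈ Finset.range (p ^ f), (X : F[X]) ^ i = (X - 1) ^ (p ^ f - 1) := by
    have h1 : (X - 1 : F[X]) ≠ 0 := by simpa using X_sub_C_ne_zero (1 : F)
    refine mul_right_cancel₀ h1 ?_
    rw [geom_sum_mul, ← pow_succ, Nat.sub_add_cancel hpos, sub_pow_char_pow, one_pow]
  simpa using congrArg (aeval g) e

theorem geom_mul {M : Type*} [AddCommGroup M] [Module F M] {g : Module.End F M} {j : ℕ} (h : g ^ j = 1) (r : ℕ) :
    ∑ i ∈ Finset.range (j * r), g ^ i = r • ∑ i ∈ Finset.range j, g ^ i := by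
  induction r with
  | zero => simp
  | succ r ih =>
    rw [Nat.mul_succ, Finset.sum_range_add, ih, succ_nsmul]
    congr 1
    refine Finset.sum_congr rfl fun i _ => ?_
    rw [pow_add, pow_mul, h, one_pow, one_mul]

theorem unip_pow {p : ℕ} [Fact p.Prime] [CharP F p] {M : Type*} [AddCommGroup M] [Module F M]
    {g : Module.End F M} {n f : ℕ} (h : (g - 1) ^ n = 0) (hf : n ≤ p ^ f) : g ^ p ^ f = 1 := by
  have := sub_pow_aeval (p := p) g (1 : F) f
  rw [one_smul, one_pow, one_smul, pow_eq_zero_of_le hf h] at this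
  exact sub_eq_zero.1 this.symm

theorem inOm_unip {p : ℕ} [hp : Fact p.Prime] [CharP F p] (h2 : (2 : F) ≠ 0) {T : Tri F (1 : F)} {n : ℕ}
    (h : (T.g - 1) ^ n = 0) : InOm T := by
  obtain ⟨f, hf⟩ : ∃ f, n ≤ p ^ f := ⟨n, (Nat.lt_pow_self hp.out.one_lt).le⟩
  refine inOm_of_odd h2 (k := p ^ f) ?_ (unip_pow h hf)
  refine (hp.out.odd_of_ne_two fun h0 => h2 ?_).pow
  subst h0
  exact_mod_cast CharP.cast_eq_zero F 2

theorem orderOf_unip {p : ℕ} [hp : Fact p.Prime] [CharP F p] {T : Tri F (1 : F)} {n : ℕ}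
    (h : (T.g - 1) ^ n = 0) : ∃ e, orderOf T.g = p ^ e := by
  obtain ⟨f, hf⟩ : ∃ f, n ≤ p ^ f := ⟨n, (Nat.lt_pow_self hp.out.one_lt).le⟩
  obtain ⟨e, -, he⟩ := (Nat.dvd_prime_pow hp.out).1 (orderOf_dvd_iff_pow_eq_one.2 (unip_pow h hf))
  exact ⟨e, he⟩

/-- A regular unipotent isometry in odd dimension. -/
theorem exists_regular [Fintype F] (h2 : (2 : F) ≠ 0) (d : ℕ) :
    ∃ T : Tri F (1 : F), Module.finrank F T.V = 2 * d + 1 ∧ (T.g - 1) ^ (2 * d + 1) = 0 ∧
      (T.g - 1) ^ (2 * d) ≠ 0 := by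
  classical
  obtain ⟨x, hx, hr⟩ := H47.exists_unipotent_odd (F := F) h2 (d := d) (μ := {2 * d + 1}) (by simp)
    (fun e he => by
      rw [Multiset.count_singleton]
      split_ifs with h
      · subst h; exact absurd he (by simp [parity_simps])
      · exact Even.zero) (by simp)
  rw [← H43.coe_qOdd] at hx
  set A := (x : Matrix (Unit ⊕ (Fin d ⊕ Fin d)) (Unit ⊕ (Fin d ⊕ Fin d)) F)
  have ho := (H43.mem_isometryGroup_iff (H43.qOdd d F) x).1 hx
  let T : Tri F (1 : F) :=
    { V := Unit ⊕ (Fin d ⊕ Fin d) → F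
      B := polB (H43.qOdd d F)
      g := Matrix.toLin' A
      sym := fun u v => by rw [one_mul, polB_comm]
      nd := fun u hu => eq_zero_of_polB_eq_zero (H43.qOdd_nondeg h2 d) hu
      iso := fun u v => by
        rw [Matrix.toLin'_apply, Matrix.toLin'_apply, ← H43.glEquiv_apply, ← H43.glEquiv_apply]
        exact polB_map ho u v }
  have hpow : ∀ k, (T.g - 1) ^ k = Matrix.toLin' ((A - 1) ^ k) := fun k => by
    rw [Matrix.toLin'_pow, map_sub, Matrix.toLin'_one]
    rfl
  refine ⟨T, H43.finrank_qOdd d, ?_, fun h0 => ?_⟩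
  · have h0 := hr (2 * d + 1)
    simp only [Multiset.map_singleton, Multiset.sum_singleton, Nat.sub_self] at h0
    rw [Matrix.rank, Submodule.finrank_eq_zero, LinearMap.range_eq_bot] at h0
    rw [hpow, Matrix.toLin'_apply', h0]
  · have h1 := hr (2 * d)
    simp only [Multiset.map_singleton, Multiset.sum_singleton, Nat.add_sub_cancel_left] at h1
    rw [hpow, LinearEquiv.map_eq_zero_iff] at h0
    rw [h0, Matrix.rank_zero] at h1
    exact zero_ne_one h1

/-- A trivial space of given discriminant. -/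
theorem exists_trivial [Finite F] (h2 : (2 : F) ≠ 0) {r : ℕ} (hr : 0 < r) (d : ℤ) (hd : d = 1 ∨ d = -1) :
    ∃ T : Tri F (1 : F), Module.finrank F T.V = r ∧ T.chi = d ∧ T.g = 1 := by
  classical
  obtain ⟨c, hc0, hc⟩ : ∃ c : F, c ≠ 0 ∧ qc c = d := by
    rcases hd with rfl | rfl
    · exact ⟨1, one_ne_zero, (qc_eq_one_iff _).2 IsSquare.one⟩
    · exact H44.Cls.exists_nonsquare' h2
  let w : Fin r → F := fun i => if i = ⟨0, hr⟩ then c else 1
  have hw : ∀ i, w i ≠ 0 := fun i => by simp only [w]; split_ifs <;> simp [hc0]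
  let B : LinearMap.BilinForm F (Fin r → F) := Matrix.toBilin' (Matrix.diagonal w)
  have hB : ∀ x y : Fin r → F, B x y = ∑ i, w i * (x i * y i) := fun x y => by
    rw [Matrix.toBilin'_apply']
    exact Finset.sum_congr rfl fun i _ => by rw [Matrix.mulVec_diagonal]; ring
  let T : Tri F (1 : F) :=
    { V := Fin r → F
      B := B
      g := 1
      sym := fun x y => by rw [one_mul, hB, hB]; exact Finset.sum_congr rfl fun i _ => by ring
      nd := fun x hx => funext fun i => by
        have := hx (Pi.single i 1)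
        rw [hB] at this
        simp [Pi.single_apply, hw] at this
        exact this
      iso := fun x y => rfl }
  refine ⟨T, Module.finrank_fin_fun F, ?_, rfl⟩
  let b : Module.Basis (Fin r) F T.V := Pi.basisFun F (Fin r)
  have hg : T.gram b = Matrix.diagonal w := by
    ext i j
    show B (Pi.basisFun F (Fin r) i) (Pi.basisFun F (Fin r) j) = _
    rw [Pi.basisFun_apply, Pi.basisFun_apply, Matrix.toBilin'_single]
  rw [T.chi_eq b, hg, Matrix.det_diagonal]
  simp [w, hc]

/-! ### The two sets of orders -/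

/-- `n` divides an element order of `Ω₉`. -/
def S9 (F : Type u) [Field F] (n : ℕ) : Prop :=
  ∃ T : Tri F (1 : F), Module.finrank F T.V = 9 ∧ InOm T ∧ n ∣ orderOf T.g

open Classical in
/-- The order of `(v, g)` in the split extension. -/
noncomputable def ordv (p : ℕ) (T : Tri F (1 : F)) (v : T.V) : ℕ :=
  if (∑ i ∈ Finset.range (orderOf T.g), T.g ^ i) v = 0 then orderOf T.g else p * orderOf T.g

/-- `n` divides an element order of `V : Ω₈⁻`. -/
def S8 (p : ℕ) (F : Type u) [Field F] (n : ℕ) : Prop :=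
  ∃ (T : Tri F (1 : F)) (v : T.V),
    Module.finrank F T.V = 8 ∧ T.chi = -1 ∧ InOm T ∧ n ∣ ordv p T v

theorem S8.of_dvd {p : ℕ} {n m : ℕ} (h : S8 p F m) (hnm : n ∣ m) : S8 p F n := by
  obtain ⟨T, v, h1, h2, h3, h4⟩ := h
  exact ⟨T, v, h1, h2, h3, hnm.trans h4⟩

/-- Padding with a trivial space. -/
theorem S8_of_small [Finite F] (h2 : (2 : F) ≠ 0) (p : ℕ) {X : Tri F (1 : F)} (hX : InOm X)
    (hd : Module.finrank F X.V < 8) : S8 p F (orderOf X.g) := by
  obtain ⟨R, hR, hRc, hR1⟩ := exists_trivial (F := F) h2 (r := 8 - Module.finrank F X.V) (by omega)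
    (-X.chi) (by rcases qc_cases (X.gram (Module.finBasis F X.V)).det with h | h <;>
      simp [Tri.chi, h])
  refine ⟨X.sum R, 0, by rw [finrank_sum, hR]; omega, ?_, hX.sum h2 (inOm_of_odd h2 odd_one (by rw [pow_one, hR1])), ?_⟩
  · rw [H44.Cls.Tri.chi_sum, hRc, mul_neg, X.chi_mul_self]
  · rw [ordv, if_pos (map_zero _), orderOf_sum]
    exact Nat.dvd_lcm_left _ _

/-- The translation construction: a regular unipotent block with a vector. -/
theorem S8_of_trans [Fintype F] {p : ℕ} [hp : Fact p.Prime] [CharP F p] (h2 : (2 : F) ≠ 0)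
    {X : Tri F (1 : F)} (hX : InOm X) (f : ℕ) (hd : Module.finrank F X.V + p ^ f < 8) :
    S8 p F (Nat.lcm (orderOf X.g) (p ^ (f + 1))) := by
  by_cases hbig : p ^ (f + 1) ∣ orderOf X.g
  · exact (S8_of_small h2 p hX (by omega)).of_dvd (Nat.lcm_dvd dvd_rfl hbig)
  have hpodd : Odd p := hp.out.odd_of_ne_two fun h0 => h2 (by subst h0; exact_mod_cast CharP.cast_eq_zero F 2)
  obtain ⟨d, hd'⟩ := hpodd.pow (n := f)
  obtain ⟨Y, hY, hY0, hY1⟩ := exists_regular (F := F) h2 d
  obtain ⟨v, hv⟩ : ∃ v, ((Y.g - 1) ^ (2 * d)) v ≠ 0 := by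
    by_contra h
    push Not at h
    exact hY1 (LinearMap.ext fun x => h x)
  have hYp : Y.g ^ p ^ f = 1 := unip_pow hY0 hd'.ge
  have hYo : orderOf Y.g = p ^ f := by
    rcases f with _ | f
    · exact Nat.dvd_one.1 (by simpa using orderOf_dvd_iff_pow_eq_one.2 hYp)
    refine orderOf_eq_prime_pow (fun h => hY1 ?_) hYp
    have e := sub_pow_aeval (p := p) Y.g (1 : F) f
    rw [one_smul, one_pow, one_smul, h, sub_self] at e
    refine pow_eq_zero_of_le ?_ e
    have : p ^ f < p ^ (f + 1) := Nat.pow_lt_pow_right hp.out.one_lt (Nat.lt_succ_self f)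
    omega
  obtain ⟨R, hR, hRc, hR1⟩ := exists_trivial (F := F) h2 (r := 8 - (Module.finrank F X.V + p ^ f)) (by omega)
    (-(X.sum Y).chi) (by rcases qc_cases ((X.sum Y).gram (Module.finBasis F (X.sum Y).V)).det with h | h <;>
      simp [Tri.chi, h])
  set T := (X.sum Y).sum R with hT
  set o := orderOf T.g with ho
  have hoe : o = Nat.lcm (orderOf X.g) (p ^ f) := by
    rw [ho, hT, orderOf_sum, orderOf_sum, hYo, hR1, orderOf_one, Nat.lcm_one_right]
  obtain ⟨r, hr⟩ : p ^ f ∣ o := hoe ▸ Nat.dvd_lcm_right _ _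
  have hpr : ¬ p ∣ r := fun h => by
    have h' : p ^ (f + 1) ∣ o := by rw [hr, pow_succ]; exact mul_dvd_mul_left _ h
    rw [hoe] at h'
    have hXne : orderOf X.g ≠ 0 := (orderOf_g_pos X).ne'
    rw [hp.out.pow_dvd_iff_le_factorization (Nat.lcm_ne_zero hXne (pow_ne_zero _ hp.out.ne_zero)),
      Nat.factorization_lcm hXne (pow_ne_zero _ hp.out.ne_zero)] at h'
    rw [hp.out.pow_dvd_iff_le_factorization hXne] at hbig
    simp [Finsupp.sup_apply, hp.out.factorization_pow] at h'
    omega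
  refine ⟨T, mkS (X.sum Y) R (mkS X Y 0 v) 0, by rw [hT, finrank_sum, finrank_sum, hR, hY]; omega, ?_, ?_, ?_⟩
  · rw [hT, H44.Cls.Tri.chi_sum, hRc, mul_neg, Tri.chi_mul_self]
  · exact (hX.sum h2 (inOm_unip h2 hY0)).sum h2 (inOm_of_odd h2 odd_one (by rw [pow_one, hR1]))
  · have hS : (∑ i ∈ Finset.range o, T.g ^ i) (mkS (X.sum Y) R (mkS X Y 0 v) 0) ≠ 0 := by
      intro h
      have h' : pr2 X Y (pr1 (X.sum Y) R ((∑ i ∈ Finset.range o, T.g ^ i) (mkS (X.sum Y) R (mkS X Y 0 v) 0))) =
          pr2 X Y (pr1 (X.sum Y) R (0 : T.V)) := congrArg (fun z => pr2 X Y (pr1 (X.sum Y) R z)) h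
      simp only [T] at h'
      simp only [map_zero, LinearMap.sum_apply, map_sum, sum_pow_apply, pr1_mk, pr2_mk] at h'
      rw [← LinearMap.sum_apply, hr, geom_mul hYp, geom_char_pow, hd', Nat.add_sub_cancel,
        LinearMap.smul_apply, ← Nat.cast_smul_eq_nsmul F] at h'
      rcases smul_eq_zero.1 h' with h'' | h''
      · exact hpr ((CharP.cast_eq_zero_iff F p r).1 h'')
      · exact hv h''
    rw [ordv, ← ho, if_neg hS, hoe, pow_succ', ← Nat.lcm_mul_left]
    exact Nat.lcm_dvd ((dvd_mul_left _ p).trans (Nat.dvd_lcm_left _ _)) (Nat.dvd_lcm_right _ _)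

end H33.Iso9
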