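import Mathlib
import Cfsg.Agent.H33.Iso9.Fit
import Cfsg.Agent.H44.PrimeClassesCore

/-!
Roots of the characteristic polynomial of an isometry over a finite field: the classes under
`x ↦ x ^ q`, `x ↦ x⁻¹`, and the bound on the order they give.
-/

set_option autoImplicit false

namespace H33.Iso9

open H43 Polynomial
open H44.Cls (Tri qc qc_mul qc_cases)

universe u

variable {F : Type u} [Field F]

/-- The roots of the characteristic polynomial in an algebraic closure. -/
noncomputable def rts (T : Tri F (1 : F)) : Multiset (AlgebraicClosure F) :=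
  (T.g.charpoly.map (algebraMap F (AlgebraicClosure F))).roots

/-- The matrix of an isometry over the algebraic closure. -/
noncomputable def matK (T : Tri F (1 : F)) :
    Matrix (Fin (Module.finrank F T.V)) (Fin (Module.finrank F T.V)) (AlgebraicClosure F) :=
  (LinearMap.toMatrix (Module.finBasis F T.V) (Module.finBasis F T.V) T.g).map
    (algebraMap F (AlgebraicClosure F))

theorem matK_charpoly (T : Tri F (1 : F)) :
    (matK T).charpoly = T.g.charpoly.map (algebraMap F (AlgebraicClosure F)) := by
  rw [matK, Matrix.charpoly_map, LinearMap.charpoly_toMatrix]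

theorem card_rts (T : Tri F (1 : F)) : Multiset.card (rts T) = Module.finrank F T.V := by
  rw [rts, IsAlgClosed.card_roots_eq_natDegree,
    natDegree_map_eq_of_injective (algebraMap F (AlgebraicClosure F)).injective, LinearMap.charpoly_natDegree]

theorem rts_eq_prod (T : Tri F (1 : F)) :
    T.g.charpoly.map (algebraMap F (AlgebraicClosure F)) = ((rts T).map fun x => X - C x).prod :=
  (IsAlgClosed.splits _).eq_prod_roots_of_monic ((LinearMap.charpoly_monic T.g).map _)

theorem mem_rts {T : Tri F (1 : F)} {x : AlgebraicClosure F} :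
    x ∈ rts T ↔ (T.g.charpoly.map (algebraMap F (AlgebraicClosure F))).eval x = 0 := by
  rw [rts, mem_roots ((LinearMap.charpoly_monic T.g).map _).ne_zero, IsRoot.def]

theorem rts_root_pow {T : Tri F (1 : F)} {o : ℕ} (h : T.g ^ o = 1) {x : AlgebraicClosure F} (hx : x ∈ rts T) :
    x ^ o = 1 := by
  refine H44.root_pow_eq_one (B := matK T) ?_ (by rw [matK_charpoly]; exact mem_rts.1 hx)
  rw [matK, ← RingHom.mapMatrix_apply, ← map_pow, LinearMap.toMatrix_pow, h, LinearMap.toMatrix_one, map_one]

theorem rts_ne_zero [Finite F] {T : Tri F (1 : F)} {x : AlgebraicClosure F} (hx : x ∈ rts T) : x ≠ 0 := fun h => by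
  have := rts_root_pow (pow_orderOf_eq_one T.g) hx
  rw [h, zero_pow (orderOf_g_pos T).ne'] at this
  exact zero_ne_one this

theorem rts_ne {T : Tri F (1 : F)} {c : F} (h : T.g.charpoly.eval c ≠ 0) {x : AlgebraicClosure F}
    (hx : x ∈ rts T) : x ≠ algebraMap F (AlgebraicClosure F) c := fun e => h (by
  have := mem_rts.1 hx
  rwa [e, eval_map, eval₂_at_apply, map_eq_zero] at this)

theorem rts_inv [Finite F] (T : Tri F (1 : F)) : (rts T).map (fun x => x⁻¹) = rts T := by
  classical
  set b := Module.finBasis F T.V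
  set A := LinearMap.toMatrix b b T.g with hAdef
  have hA : A.transpose * T.gram b * A = T.gram b := by
    have hG : T.gram b = LinearMap.BilinForm.toMatrix b T.B := by
      ext i j
      rw [LinearMap.BilinForm.toMatrix_apply]; rfl
    rw [hG, hAdef, ← LinearMap.BilinForm.toMatrix_comp b b]
    congr 1
    exact LinearMap.ext₂ fun x y => T.iso x y
  have hS : IsUnit (T.gram b) := (Matrix.isUnit_iff_isUnit_det _).2 (isUnit_iff_ne_zero.2 (T.gram_det_ne b))
  have hinv := H44.charpoly_inv_of_form hS hA
  have hAu : IsUnit A.det := by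
    rw [hAdef, LinearMap.det_toMatrix]
    exact IsUnit.of_mul_eq_one _ (det_sq T)
  have hK : IsUnit (matK T) := by
    rw [Matrix.isUnit_iff_isUnit_det, matK, ← RingHom.mapMatrix_apply, ← RingHom.map_det]
    exact hAu.map _
  have hKinv : (matK T)⁻¹ = (A⁻¹).map (algebraMap F (AlgebraicClosure F)) := by
    refine Matrix.inv_eq_right_inv ?_
    rw [matK, ← Matrix.map_mul, ← hAdef, Matrix.mul_nonsing_inv A hAu, Matrix.map_one _ (map_zero _) (map_one _)]
  have h := H44.roots_charpoly_inv hK (IsAlgClosed.splits _)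
    (fun x hx => rts_ne_zero (T := T) (by rwa [matK_charpoly] at hx))
  rw [hKinv, Matrix.charpoly_map, hinv, hAdef, LinearMap.charpoly_toMatrix,
    matK_charpoly] at h
  exact h.symm

theorem rts_frob [Fintype F] (T : Tri F (1 : F)) :
    (rts T).map (fun x => x ^ Fintype.card F) = rts T := by
  set φ : AlgebraicClosure F →ₐ[F] AlgebraicClosure F := FiniteField.frobeniusAlgHom F (AlgebraicClosure F)
  have e : (T.g.charpoly.map (algebraMap F (AlgebraicClosure F))).map φ.toRingHom =
      T.g.charpoly.map (algebraMap F (AlgebraicClosure F)) := by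
    rw [Polynomial.map_map, AlgHom.toRingHom_eq_coe, AlgHom.comp_algebraMap]
  have := (IsAlgClosed.splits (T.g.charpoly.map (algebraMap F (AlgebraicClosure F)))).roots_map φ.toRingHom
  rw [e] at this
  exact this.symm

section Counting

variable [Fintype F] {T : Tri F (1 : F)}

open scoped Classical

theorem count_inv (T : Tri F (1 : F)) (x : AlgebraicClosure F) : (rts T).count x⁻¹ = (rts T).count x := by
  conv_lhs => rw [← rts_inv T]
  exact Multiset.count_map_eq_count' _ _ inv_injective x

theorem frob_injective : Function.Injective fun x : AlgebraicClosure F => x ^ Fintype.card F :=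
  (FiniteField.frobeniusAlgHom F (AlgebraicClosure F)).toRingHom.injective

theorem count_frob (T : Tri F (1 : F)) (x : AlgebraicClosure F) :
    (rts T).count (x ^ Fintype.card F) = (rts T).count x := by
  conv_lhs => rw [← rts_frob T]
  exact Multiset.count_map_eq_count' _ _ frob_injective x

theorem count_frob_pow (T : Tri F (1 : F)) (x : AlgebraicClosure F) (i : ℕ) :
    (rts T).count (x ^ Fintype.card F ^ i) = (rts T).count x := by
  induction i with
  | zero => simp
  | succ i ih => rw [pow_succ, pow_mul, count_frob, ih]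

theorem frob_pow_injective (i : ℕ) : Function.Injective fun x : AlgebraicClosure F => x ^ Fintype.card F ^ i := by
  induction i with
  | zero => intro a b h; simpa using h
  | succ i ih =>
    intro a b h
    simp only [pow_succ, pow_mul] at h
    exact ih (frob_injective h)

/-- `x ^ (q ^ d) = x ^ (± 1)`. -/
def Per (F : Type u) [Field F] [Fintype F] (d : ℕ) (x : AlgebraicClosure F) : Prop :=
  x ^ Fintype.card F ^ d = x ∨ x ^ Fintype.card F ^ d = x⁻¹

/-- The class of `x` of half size `d`. -/
noncomputable def cls (F : Type u) [Field F] [Fintype F] (d : ℕ) (x : AlgebraicClosure F) :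
    Finset (AlgebraicClosure F) :=
  (Finset.range d).image (fun i => x ^ Fintype.card F ^ i) ∪
    (Finset.range d).image (fun i => x⁻¹ ^ Fintype.card F ^ i)

/-- A class of roots. -/
structure Cls (T : Tri F (1 : F)) (d : ℕ) (x : AlgebraicClosure F) : Prop where
  mem : x ∈ rts T
  pos : 1 ≤ d
  per : Per F d x
  card : (cls F d x).card = 2 * d

theorem per_inv {d : ℕ} {x : AlgebraicClosure F} (h : Per F d x) : Per F d x⁻¹ := by
  rcases h with h | h
  · exact Or.inl (by rw [inv_pow, h])
  · exact Or.inr (by rw [inv_pow, h])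

theorem exists_cls {x : AlgebraicClosure F} (hx : x ∈ rts T) (h1 : x * x ≠ 1) : ∃ d, Cls T d x := by
  set q := Fintype.card F with hq
  have hx0 := rts_ne_zero hx
  have hmem : ∀ i, x ^ q ^ i ∈ rts T := fun i => by
    rw [← Multiset.one_le_count_iff_mem, count_frob_pow]
    exact Multiset.one_le_count_iff_mem.2 hx
  have hex : ∃ d, 1 ≤ d ∧ Per F d x := by
    obtain ⟨i, j, hij, he⟩ := Finite.exists_ne_map_eq_of_infinite
      (fun i : ℕ => (⟨x ^ q ^ i, Multiset.mem_toFinset.2 (hmem i)⟩ : (rts T).toFinset))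
    have he' : x ^ q ^ i = x ^ q ^ j := congrArg Subtype.val he
    clear he
    wlog hle : i < j generalizing i j
    · exact this j i hij.symm he'.symm (by omega)
    refine ⟨j - i, by omega, Or.inl ?_⟩
    refine frob_pow_injective i ?_
    show (x ^ q ^ (j - i)) ^ q ^ i = x ^ q ^ i
    rw [← pow_mul, ← pow_add, Nat.sub_add_cancel hle.le, he']
  have hmin : ∀ e, 1 ≤ e → e < Nat.find hex → ¬ Per F e x := fun e he hlt h =>
    Nat.find_min hex hlt ⟨he, h⟩
  set d := Nat.find hex
  obtain ⟨hd1, hper⟩ := Nat.find_spec hex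
  refine ⟨d, hx, hd1, hper, ?_⟩
  -- distinctness
  have key : ∀ (y z : AlgebraicClosure F), (z = y ∨ z = y⁻¹) → (y = x ∨ y = x⁻¹) →
      ∀ i j, i < j → j < d → y ^ q ^ i = z ^ q ^ j → False := by
    intro y z hz hy i j hij hjd he
    have e : z ^ q ^ (j - i) = y := frob_pow_injective i (by
      show (z ^ q ^ (j - i)) ^ q ^ i = y ^ q ^ i
      rw [← pow_mul, ← pow_add, Nat.sub_add_cancel hij.le, he])
    refine hmin (j - i) (by omega) (by omega) ?_
    show x ^ q ^ (j - i) = x ∨ x ^ q ^ (j - i) = x⁻¹
    rcases hz with rfl | rfl <;> rcases hy with rfl | rfl <;>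
      (try simp only [inv_pow, inv_inv, inv_eq_iff_eq_inv] at e) <;> first | exact Or.inl e | exact Or.inr e
  have hinj : ∀ (y : AlgebraicClosure F), (y = x ∨ y = x⁻¹) →
      Set.InjOn (fun i => y ^ q ^ i) (Finset.range d : Finset ℕ) := by
    intro y hy i hi j hj he
    rw [Finset.coe_range, Set.mem_Iio] at hi hj
    rcases lt_trichotomy i j with h | h | h
    · exact absurd (key y y (Or.inl rfl) hy i j h hj he) id
    · exact h
    · exact absurd (key y y (Or.inl rfl) hy j i h hi he.symm) id
  rw [cls, Finset.card_union_of_disjoint, Finset.card_image_of_injOn (hinj x (Or.inl rfl)),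
    Finset.card_image_of_injOn (hinj x⁻¹ (Or.inr rfl)), Finset.card_range]
  · ring
  · rw [Finset.disjoint_left]
    intro a ha hb
    obtain ⟨i, hi, rfl⟩ := Finset.mem_image.1 ha
    obtain ⟨j, hj, he⟩ := Finset.mem_image.1 hb
    rw [Finset.mem_range] at hi hj
    rcases lt_trichotomy i j with h | h | h
    · exact key x x⁻¹ (Or.inr rfl) (Or.inl rfl) i j h hj he.symm
    · subst h
      have := frob_pow_injective i he
      exact h1 (by nth_rw 1 [← this]; exact inv_mul_cancel₀ hx0)
    · exact key x⁻¹ x (Or.inr (inv_inv x).symm) (Or.inr rfl) j i h hi he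

variable {d : ℕ} {x : AlgebraicClosure F}

theorem Cls.closed (h : Cls T d x) {y : AlgebraicClosure F} (hy : y ∈ cls F d x) :
    y⁻¹ ∈ cls F d x ∧ y ^ Fintype.card F ∈ cls F d x := by
  simp only [cls, Finset.mem_union, Finset.mem_image, Finset.mem_range] at hy ⊢
  constructor
  · rcases hy with ⟨i, hi, rfl⟩ | ⟨i, hi, rfl⟩
    · exact Or.inr ⟨i, hi, inv_pow _ _⟩
    · exact Or.inl ⟨i, hi, by rw [inv_pow, inv_inv]⟩
  · rcases hy with ⟨i, hi, rfl⟩ | ⟨i, hi, rfl⟩ <;> rw [← pow_mul, ← pow_succ]
    · by_cases hlt : i + 1 < d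
      · exact Or.inl ⟨i + 1, hlt, rfl⟩
      · rw [show i + 1 = d by omega]
        rcases h.per with hp | hp
        · exact Or.inl ⟨0, h.pos, by rw [hp, pow_zero, pow_one]⟩
        · exact Or.inr ⟨0, h.pos, by rw [hp, pow_zero, pow_one]⟩
    · by_cases hlt : i + 1 < d
      · exact Or.inr ⟨i + 1, hlt, rfl⟩
      · rw [show i + 1 = d by omega]
        rcases per_inv h.per with hp | hp
        · exact Or.inr ⟨0, h.pos, by rw [hp, pow_zero, pow_one]⟩
        · exact Or.inl ⟨0, h.pos, by rw [hp, pow_zero, pow_one, inv_inv]⟩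

theorem Cls.closed_pow (h : Cls T d x) {y : AlgebraicClosure F} (hy : y ∈ cls F d x) (i : ℕ) :
    y ^ Fintype.card F ^ i ∈ cls F d x := by
  induction i with
  | zero => rwa [pow_zero, pow_one]
  | succ i ih => rw [pow_succ, pow_mul]; exact (h.closed ih).2

theorem Cls.count_eq (_h : Cls T d x) {y : AlgebraicClosure F} (hy : y ∈ cls F d x) :
    (rts T).count y = (rts T).count x := by
  simp only [cls, Finset.mem_union, Finset.mem_image] at hy
  rcases hy with ⟨i, -, rfl⟩ | ⟨i, -, rfl⟩
  · exact count_frob_pow T x i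
  · rw [count_frob_pow, count_inv]

theorem Cls.self_mem (h : Cls T d x) : x ∈ cls F d x := by
  simp only [cls, Finset.mem_union, Finset.mem_image, Finset.mem_range]
  exact Or.inl ⟨0, h.pos, by rw [pow_zero, pow_one]⟩

theorem Cls.count_pos (h : Cls T d x) : 1 ≤ (rts T).count x := Multiset.one_le_count_iff_mem.2 h.mem

/-- Exponents pass through a class. -/
theorem Cls.pow_eq_one (_h : Cls T d x) {N : ℕ} (hN : x ^ N = 1) {y : AlgebraicClosure F}
    (hy : y ∈ cls F d x) : y ^ N = 1 := by
  simp only [cls, Finset.mem_union, Finset.mem_image] at hy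
  rcases hy with ⟨i, -, rfl⟩ | ⟨i, -, rfl⟩
  · rw [← pow_mul, mul_comm, pow_mul, hN, one_pow]
  · rw [← pow_mul, mul_comm, pow_mul, inv_pow, hN, inv_one, one_pow]

theorem Cls.sum_count (h : Cls T d x) : ∑ y ∈ cls F d x, (rts T).count y = 2 * d * (rts T).count x := by
  rw [Finset.sum_congr rfl fun y hy => h.count_eq hy, Finset.sum_const, h.card, smul_eq_mul]

omit [Fintype F] in
theorem sum_count_le (T : Tri F (1 : F)) (S : Finset (AlgebraicClosure F)) :
    ∑ y ∈ S, (rts T).count y ≤ Module.finrank F T.V := by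
  rw [← card_rts, ← Multiset.sum_count_eq_card (s := S ∪ (rts T).toFinset)
    (fun a ha => Finset.mem_union_right _ (Multiset.mem_toFinset.2 ha))]
  exact Finset.sum_le_sum_of_subset Finset.subset_union_left

theorem Cls.weight_le (h : Cls T d x) : 2 * d * (rts T).count x ≤ Module.finrank F T.V :=
  h.sum_count ▸ sum_count_le T _

/-- A root outside a class has a disjoint class. -/
theorem Cls.disjoint (h : Cls T d x) {e : ℕ} {z : AlgebraicClosure F} (h' : Cls T e z)
    (hz : z ∉ cls F d x) : Disjoint (cls F d x) (cls F e z) := by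
  rw [Finset.disjoint_left]
  intro a ha hb
  refine hz ?_
  simp only [cls, Finset.mem_union, Finset.mem_image, Finset.mem_range] at hb
  have back : ∀ i, i < e → ∀ y, (y = z ∨ y = z⁻¹) → y ^ Fintype.card F ^ i = a → z ∈ cls F d x := by
    intro i hi y hy he
    have h1 := h.closed_pow ha (e - i)
    rw [← he, ← pow_mul, ← pow_add, Nat.add_sub_cancel' hi.le] at h1
    have hp : Per F e y := by rcases hy with rfl | rfl <;> [exact h'.per; exact per_inv h'.per]
    have hy' : y ∈ cls F d x := by
      rcases hp with hp | hp <;> rw [hp] at h1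
      · exact h1
      · simpa using (h.closed h1).1
    rcases hy with rfl | rfl
    · exact hy'
    · simpa using (h.closed hy').1
  rcases hb with ⟨i, hi, he⟩ | ⟨i, hi, he⟩
  · exact back i hi z (Or.inl rfl) he
  · exact back i hi z⁻¹ (Or.inr rfl) he

theorem Cls.weight_two (h : Cls T d x) {e : ℕ} {z : AlgebraicClosure F} (h' : Cls T e z)
    (hz : z ∉ cls F d x) :
    2 * d * (rts T).count x + 2 * e * (rts T).count z ≤ Module.finrank F T.V := by
  rw [← h.sum_count, ← h'.sum_count, ← Finset.sum_union (h.disjoint h' hz)]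
  exact sum_count_le T _

theorem Cls.weight_three (h : Cls T d x) {e : ℕ} {z : AlgebraicClosure F} (h' : Cls T e z)
    (hz : z ∉ cls F d x) {g : ℕ} {w : AlgebraicClosure F} (h'' : Cls T g w) (hw : w ∉ cls F d x)
    (hw' : w ∉ cls F e z) :
    2 * d * (rts T).count x + 2 * e * (rts T).count z + 2 * g * (rts T).count w ≤ Module.finrank F T.V := by
  rw [← h.sum_count, ← h'.sum_count, ← h''.sum_count, ← Finset.sum_union (h.disjoint h' hz),
    ← Finset.sum_union (Finset.disjoint_union_left.2 ⟨h.disjoint h'' hw, h'.disjoint h'' hw'⟩)]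
  exact sum_count_le T _

omit [Fintype F] in
/-- The order bound given by exponents and multiplicities of the roots. -/
theorem pow_eq_one_of_rts {p : ℕ} [hp : Fact p.Prime] [CharP F p] {M e : ℕ} (hM : 0 < M)
    (h : ∀ y ∈ rts T, y ^ M = 1 ∧ (rts T).count y ≤ p ^ e) : T.g ^ (M * p ^ e) = 1 := by
  have : CharP (AlgebraicClosure F) p := charP_of_injective_algebraMap' F (A := AlgebraicClosure F) p
  have hM0 : (X ^ M - 1 : (AlgebraicClosure F)[X]) ≠ 0 := by
    simpa using (monic_X_pow_sub_C (1 : AlgebraicClosure F) hM.ne').ne_zero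
  have hle : rts T ≤ ((X ^ M - 1 : (AlgebraicClosure F)[X]) ^ p ^ e).roots := by
    rw [Multiset.le_iff_count]
    intro y
    by_cases hy : y ∈ rts T
    · rw [roots_pow, Multiset.count_nsmul]
      refine (h y hy).2.trans (Nat.le_mul_of_pos_right _ (Multiset.count_pos.2 ?_))
      rw [mem_roots hM0, IsRoot.def, eval_sub, eval_pow, eval_X, eval_one, (h y hy).1, sub_self]
    · rw [Multiset.count_eq_zero.2 hy]; exact Nat.zero_le _
  have hdvd : T.g.charpoly.map (algebraMap F (AlgebraicClosure F)) ∣
      ((X : F[X]) ^ (M * p ^ e) - 1).map (algebraMap F (AlgebraicClosure F)) := by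
    rw [Polynomial.map_sub, Polynomial.map_pow, Polynomial.map_X, Polynomial.map_one, pow_mul,
      ← one_pow (M := (AlgebraicClosure F)[X]) (p ^ e), ← sub_pow_char_pow, rts_eq_prod]
    exact (Multiset.prod_dvd_prod_of_le (Multiset.map_le_map hle)).trans (prod_multiset_X_sub_C_dvd _)
  obtain ⟨c, hc⟩ := (map_dvd_map _ (algebraMap F (AlgebraicClosure F)).injective (LinearMap.charpoly_monic T.g)).1 hdvd
  have := congrArg (aeval T.g) hc
  rw [map_mul, LinearMap.aeval_self_charpoly, zero_mul, map_sub, map_pow, aeval_X, map_one, sub_eq_zero] at this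
  exact this

end Counting

end H33.Iso9
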