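import Mathlib
import Cfsg.Agent.H33.Iso9.Roots

/-!
The polynomial of one class of roots: discriminant and spinor signs.
-/

set_option autoImplicit false

namespace H33.Iso9

open H43 Polynomial
open H44.Cls (Tri qc qc_mul qc_cases)

universe u

variable {F : Type u} [Field F] [Fintype F]

/-- The factor of one pair of roots at `c`. -/
noncomputable def pairVal {K : Type*} [Field K] (c y : K) : K := (c - y) * (c - y⁻¹)

/-- The value of a class polynomial at `c`. -/
noncomputable def clsVal (F : Type u) [Field F] [Fintype F] (d : ℕ) (x c : AlgebraicClosure F) :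
    AlgebraicClosure F :=
  ∏ i ∈ Finset.range d, pairVal c (x ^ Fintype.card F ^ i)

/-- Half of the order of a cyclic class group. -/
def half (q d : ℕ) (s : Bool) : ℕ := if s then (q ^ d + 1) / 2 else (q ^ d - 1) / 2

/-- The exponent of a class of sign `s`. -/
def expo (q d : ℕ) (s : Bool) : ℕ := if s then q ^ d + 1 else q ^ d - 1

theorem two_mul_half {q : ℕ} (hq : Odd q) (d : ℕ) (s : Bool) : 2 * half q d s = expo q d s := by
  have h := hq.pow (n := d)
  obtain ⟨k, hk⟩ := h
  unfold half expo
  cases s <;> simp [hk] <;> omega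

theorem expo_pos {q : ℕ} (hq : 1 < q) {d : ℕ} (hd : 1 ≤ d) (s : Bool) : 0 < expo q d s := by
  have : 1 < q ^ d := Nat.one_lt_pow (by omega) hq
  unfold expo
  cases s <;> simp <;> omega

theorem per_of_expo {d : ℕ} {x : AlgebraicClosure F} {s : Bool}
    (h : x ^ expo (Fintype.card F) d s = 1) : Per F d x := by
  unfold expo at h
  have hp : 1 ≤ Fintype.card F ^ d := Nat.one_le_pow _ _ Fintype.card_pos
  cases s
  · left
    simp only [Bool.false_eq_true, if_false] at h
    conv_lhs => rw [show Fintype.card F ^ d = (Fintype.card F ^ d - 1) + 1 by omega, pow_succ, h, one_mul]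
  · right
    simp only [if_true, pow_succ] at h
    exact eq_inv_of_mul_eq_one_left h

theorem expo_of_per {d : ℕ} {x : AlgebraicClosure F} (hx : x ≠ 0) (h : Per F d x) :
    ∃ s, x ^ expo (Fintype.card F) d s = 1 := by
  have hp : 1 ≤ Fintype.card F ^ d := Nat.one_le_pow _ _ Fintype.card_pos
  rcases h with h | h
  · refine ⟨false, ?_⟩
    simp only [expo, Bool.false_eq_true, if_false]
    rw [pow_sub₀ x hx hp, pow_one, h, mul_inv_cancel₀ hx]
  · refine ⟨true, ?_⟩
    simp only [expo, if_true]
    rw [pow_succ, h, inv_mul_cancel₀ hx]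

variable {d : ℕ} {x : AlgebraicClosure F} {s : Bool}

theorem frob_add (i : ℕ) (a b : AlgebraicClosure F) :
    (a + b) ^ Fintype.card F ^ i = a ^ Fintype.card F ^ i + b ^ Fintype.card F ^ i := by
  induction i with
  | zero => simp
  | succ i ih =>
    rw [pow_succ, pow_mul, pow_mul, pow_mul, ih]
    exact map_add (FiniteField.frobeniusAlgHom F (AlgebraicClosure F)) _ _

/-- Euler's criterion for the value at `-1`. -/
theorem clsVal_neg_one (hodd : Odd (Fintype.card F)) (hx : x ^ expo (Fintype.card F) d s = 1)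
    (hx0 : x ≠ 0) (hn : x ≠ -1) :
    clsVal F d x (-1) ≠ 0 ∧
      clsVal F d x (-1) ^ (Fintype.card F / 2) = x ^ half (Fintype.card F) d s := by
  set q := Fintype.card F with hq
  set u : AlgebraicClosure F := (1 + x) * (1 + x⁻¹) with hu
  have hprod : clsVal F d x (-1) = u ^ ∑ i ∈ Finset.range d, q ^ i := by
    rw [clsVal, ← Finset.prod_pow_eq_pow_sum]
    refine Finset.prod_congr rfl fun i _ => ?_
    rw [hu, mul_pow, frob_add, frob_add, one_pow, inv_pow, pairVal]
    ring
  have h1 : 1 + x ≠ 0 := fun h => hn (eq_neg_of_add_eq_zero_right h)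
  have hu' : u = (1 + x) ^ 2 * x⁻¹ := by rw [hu]; field_simp; ring
  have hu0 : u ≠ 0 := by rw [hu']; exact mul_ne_zero (pow_ne_zero _ h1) (inv_ne_zero hx0)
  refine ⟨by rw [hprod]; exact pow_ne_zero _ hu0, ?_⟩
  obtain ⟨k, hk⟩ := hodd
  have hqd : Odd (q ^ d) := Odd.pow ⟨k, hk⟩
  obtain ⟨m, hm⟩ := hqd
  have hexp : (∑ i ∈ Finset.range d, q ^ i) * (q / 2) = m := by
    have h := geom_sum_mul_of_one_le (show 1 ≤ q by omega) d
    rw [hm, show q - 1 = 2 * (q / 2) by omega, mul_left_comm] at h
    omega
  rw [hprod, ← pow_mul, hexp, hu', mul_pow, ← pow_mul]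
  have hA : (1 + x) ^ (2 * m) * (1 + x) = 1 + x ^ q ^ d := by
    rw [← pow_succ, ← hm, frob_add, one_pow]
  have hx2 : x ^ (2 * half q d s) = 1 := by rw [two_mul_half ⟨k, hk⟩, hx]
  have hh : x⁻¹ ^ half q d s = x ^ half q d s := by
    rw [inv_pow]
    refine inv_eq_of_mul_eq_one_left ?_
    rw [← pow_add, ← two_mul, hx2]
  cases s
  · simp only [half, Bool.false_eq_true, if_false, hm, Nat.add_sub_cancel, Nat.mul_div_cancel_left m two_pos] at hh hx2 ⊢
    have : x ^ q ^ d = x := by rw [hm, pow_succ, hx2, one_mul]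
    rw [this] at hA
    rw [mul_left_eq_self₀.1 hA |>.resolve_right h1, one_mul, hh]
  · simp only [half, if_true, hm, show (2 * m + 1 + 1) / 2 = m + 1 by omega] at hh hx2 ⊢
    have hxq : x ^ q ^ d = x⁻¹ := by
      refine eq_inv_of_mul_eq_one_left ?_
      rw [hm, ← pow_succ, show 2 * m + 1 + 1 = 2 * (m + 1) by ring, hx2]
    rw [hxq, show (1 : AlgebraicClosure F) + x⁻¹ = x⁻¹ * (1 + x) by field_simp; ring] at hA
    rw [mul_right_cancel₀ h1 hA, ← pow_succ', hh]

/-- Euler's criterion for the value at `1`. -/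
theorem clsVal_one (hodd : Odd (Fintype.card F)) (hx : x ^ expo (Fintype.card F) d s = 1)
    (hx0 : x ≠ 0) (hn : x ≠ 1) :
    clsVal F d x 1 ≠ 0 ∧
      clsVal F d x 1 ^ (Fintype.card F / 2) = (-x) ^ half (Fintype.card F) d s := by
  have he : Even (expo (Fintype.card F) d s) := ⟨half (Fintype.card F) d s, by rw [← two_mul_half hodd]; ring⟩
  have h := clsVal_neg_one hodd (x := -x) (by rw [he.neg_pow, hx]) (neg_ne_zero.2 hx0)
    (fun h => hn (neg_injective h))
  have e : clsVal F d (-x) (-1) = clsVal F d x 1 := Finset.prod_congr rfl fun i _ => by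
    rw [hodd.pow.neg_pow, pairVal, pairVal, inv_neg]; ring
  rwa [e] at h

/-- The sign of an element from its Euler power in the algebraic closure. -/
theorem qc_of_pow (hodd : Odd (Fintype.card F)) {c : F} (hc : c ≠ 0) {h : ℕ}
    (he : algebraMap F (AlgebraicClosure F) c ^ (Fintype.card F / 2) = (-1) ^ h) : qc c = (-1) ^ h := by
  have h2 := H43.two_ne_zero_of_odd_card hodd
  have hchar : ringChar F ≠ 2 := H44.ringChar_ne_two_of_odd_card hodd
  have he' : c ^ (Fintype.card F / 2) = (-1) ^ h := (algebraMap F (AlgebraicClosure F)).injective (by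
    rw [map_pow, he, map_pow, map_neg, map_one])
  have hsq := FiniteField.isSquare_iff hchar hc
  rw [he'] at hsq
  rcases Nat.even_or_odd h with e | e
  · rw [e.neg_one_pow] at hsq ⊢
    exact (qc_eq_one_iff c).2 (hsq.2 rfl)
  · rw [e.neg_one_pow] at hsq ⊢
    refine (qc_cases c).resolve_left fun h1 => h2 ?_
    have := hsq.1 ((qc_eq_one_iff c).1 h1)
    linear_combination -this

theorem mem_range_of_frob {a : AlgebraicClosure F} (ha : a ^ Fintype.card F = a) :
    a ∈ Set.range (algebraMap F (AlgebraicClosure F)) := by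
  classical
  have hq : 1 < Fintype.card F := Fintype.one_lt_card
  have hne := FiniteField.X_pow_card_sub_X_ne_zero (AlgebraicClosure F) hq
  by_contra hna
  have hsub : insert a (Finset.univ.image (algebraMap F (AlgebraicClosure F))) ⊆
      (X ^ Fintype.card F - X : (AlgebraicClosure F)[X]).roots.toFinset := by
    intro y hy
    rw [Multiset.mem_toFinset, mem_roots hne, IsRoot.def, eval_sub, eval_pow, eval_X, sub_eq_zero]
    rcases Finset.mem_insert.1 hy with rfl | hy
    · exact ha
    · obtain ⟨z, -, rfl⟩ := Finset.mem_image.1 hy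
      rw [← map_pow, FiniteField.pow_card]
  have h1 := (Finset.card_le_card hsub).trans (Multiset.toFinset_card_le _)
  rw [Finset.card_insert_of_notMem (fun h => hna (by
      obtain ⟨z, -, rfl⟩ := Finset.mem_image.1 h; exact ⟨z, rfl⟩)),
    Finset.card_image_of_injective _ (algebraMap F (AlgebraicClosure F)).injective, Finset.card_univ] at h1
  have h2 := h1.trans (card_roots' _)
  rw [FiniteField.X_pow_card_sub_X_natDegree_eq (AlgebraicClosure F) hq] at h2
  omega

omit [Fintype F] in
/-- The matrix `J` has determinant `1`. -/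
theorem det_J_eq_one (n : ℕ) : (Matrix.J (Fin n) F).det = 1 := by
  have h : Matrix.fromBlocks (0 : Matrix (Fin n) (Fin n) F) 1 1 0 * Matrix.fromBlocks 1 0 0 (-1) =
      Matrix.J (Fin n) F := by
    rw [Matrix.fromBlocks_multiply]; simp [Matrix.J]
  rw [← h, Matrix.det_mul, H43.det_swap_blocks, Matrix.det_fromBlocks_zero₂₁, Matrix.det_one, one_mul,
    Matrix.det_neg, Matrix.det_one, mul_one, Fintype.card_fin, ← mul_pow, neg_one_mul, neg_neg, one_pow]

theorem pairVal_eq_eval {K : Type*} [Field K] (c y : K) :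
    pairVal c y = ((X - C y) * (X - C y⁻¹) : K[X]).eval c := by simp [pairVal]

/-- A piece: one class of roots, of nontrivial spinor norm. -/
theorem exists_piece (hodd : Odd (Fintype.card F)) (hd : 1 ≤ d) (s : Bool) :
    ∃ T : Tri F (1 : F), Module.finrank F T.V = 2 * d ∧ T.chi = (-1) ^ half (Fintype.card F) d s ∧
      LinearMap.det T.g = 1 ∧ spinor (og T) ≠ 1 ∧ expo (Fintype.card F) d s ∣ orderOf T.g := by
  classical
  have h2 := H43.two_ne_zero_of_odd_card hodd
  set q := Fintype.card F with hq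
  have hq1 : 1 < q := Fintype.one_lt_card
  have hq3 : 3 ≤ q := by obtain ⟨k, hk⟩ := hodd; omega
  have hh := two_mul_half hodd d s
  have hpos := expo_pos hq1 hd s
  by_cases hsmall : expo q d s ≤ 2
  · -- only `q = 3`, `d = 1`, split
    have h1 : half q d s = 1 := by omega
    have hd1 : d = 1 := by
      by_contra hne
      have : q ^ 2 ≤ q ^ d := Nat.pow_le_pow_right (by omega) (by omega)
      have : 9 ≤ q ^ 2 := by nlinarith
      unfold expo at hsmall
      cases s <;> simp at hsmall <;> omega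
    obtain ⟨ν, hν0, hν⟩ := H44.Cls.exists_nonsquare' (F := F) h2
    have hm : (-1 : F) * -1 = 1 := by ring
    set T := H44.Cls.plane (-1 : F) ν hm hν0 with hT
    have hP1 : T.g.charpoly.eval 1 ≠ 0 := by
      rw [hT, H44.Cls.plane_charpoly]; simp; exact fun h => h2 (by linear_combination h)
    have hfr : Module.finrank F T.V = 2 := Module.finrank_fin_fun F
    have hdet : LinearMap.det T.g = 1 := by rw [det_free hP1, hfr]; norm_num
    have hchi : T.chi = -1 := by rw [hT, H44.Cls.plane_chi, hν]
    refine ⟨T, by rw [hfr, hd1], by rw [hchi, h1, pow_one], hdet, fun h => ?_, ?_⟩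
    · have := (inOm_free_iff h2 hP1 (by rw [hfr]; exact even_two)).1 ⟨hdet, h⟩
      rw [hchi, hT, H44.Cls.plane_charpoly, (qc_eq_one_iff _).2 ⟨2, by simp; ring⟩] at this
      omega
    · rw [show expo q d s = 2 by omega]
      have hgn : (Matrix.toLin' (Matrix.diagonal fun _ : Fin 2 => (-1 : F))) =
          (-1 : Module.End F (Fin 2 → F)) := by
        refine LinearMap.ext fun y => funext fun i => ?_
        simp [Matrix.mulVec_diagonal]
      have hgn' : ∀ y : Fin 2 → F, Matrix.toLin' (Matrix.diagonal fun _ : Fin 2 => (-1 : F)) y = -y := fun y => by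
        rw [hgn]; rfl
      have hg2 : T.g ^ 2 = 1 := LinearMap.ext fun x => by
        rw [pow_two, Module.End.mul_apply]
        exact ((hgn' _).trans (congrArg Neg.neg (hgn' x))).trans (neg_neg _)
      have : orderOf T.g = 2 := orderOf_eq_prime hg2 fun h => h2 (by
        have := congrFun (LinearMap.congr_fun h (fun _ => (1 : F))) 0
        have e : (Matrix.toLin' (Matrix.diagonal fun _ : Fin 2 => (-1 : F))) (fun _ => 1) 0 = (1 : F) := this
        simp [Matrix.mulVec_diagonal] at e
        linear_combination -e)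
      rw [this]
  push Not at hsmall
  have hN : ((expo q d s : ℕ) : AlgebraicClosure F) ≠ 0 := by
    have h0 : ((q ^ d : ℕ) : AlgebraicClosure F) = 0 := by
      rw [Nat.cast_pow, show (q : AlgebraicClosure F) = 0 by
        rw [← map_natCast (algebraMap F (AlgebraicClosure F)), FiniteField.cast_card_eq_zero, map_zero],
        zero_pow (by omega)]
    unfold expo
    cases s
    · simp [Nat.cast_sub (Nat.one_le_pow d q (by omega)), h0]
    · rw [if_pos rfl, Nat.cast_add, h0, zero_add, Nat.cast_one]; exact one_ne_zero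
  have : NeZero ((expo q d s : ℕ) : AlgebraicClosure F) := ⟨hN⟩
  obtain ⟨z, hz⟩ := HasEnoughRootsOfUnity.exists_primitiveRoot (AlgebraicClosure F) (expo q d s)
  have hz0 : z ≠ 0 := hz.ne_zero hpos.ne'
  have hzh : z ^ half q d s = -1 := by
    have h1 : z ^ half q d s ≠ 1 := hz.pow_ne_one_of_pos_of_lt (by omega) (by omega)
    have h2 : z ^ half q d s * z ^ half q d s = 1 := by
      rw [← pow_add, ← two_mul, hh, hz.pow_eq_one]
    exact (mul_self_eq_one_iff.1 h2).resolve_left h1
  have hz1 : z ≠ 1 := fun h => by have := hz.eq_orderOf; rw [h, orderOf_one] at this; omega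
  have hzn : z ≠ -1 := fun h => by
    have h2 : z ^ 2 = 1 := by rw [h]; ring
    have := Nat.le_of_dvd two_pos (hz.dvd_of_pow_eq_one 2 h2)
    omega
  -- the class polynomial
  set a : ℕ → AlgebraicClosure F := fun i => z ^ q ^ i with ha
  have ha0 : ∀ i, a i ≠ 0 := fun i => pow_ne_zero _ hz0
  set PK : (AlgebraicClosure F)[X] := ∏ i ∈ Finset.range d, (X - C (a i)) * (X - C (a i)⁻¹) with hPK
  have hper : Per F d z := per_of_expo hz.pow_eq_one
  have hfix : PK.map (FiniteField.frobeniusAlgHom F (AlgebraicClosure F)).toRingHom = PK := by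
    rw [hPK, Polynomial.map_prod]
    have e : ∀ i, ((X - C (a i)) * (X - C (a i)⁻¹)).map
        (FiniteField.frobeniusAlgHom F (AlgebraicClosure F)).toRingHom =
        (X - C (a (i + 1))) * (X - C (a (i + 1))⁻¹) := fun i => by
      simp only [Polynomial.map_mul, Polynomial.map_sub, map_X, map_C]
      rw [map_inv₀, show (FiniteField.frobeniusAlgHom F (AlgebraicClosure F)).toRingHom (a i) = a (i + 1) from by
        show (z ^ q ^ i) ^ q = z ^ q ^ (i + 1)
        rw [← pow_mul, ← pow_succ]]
    simp only [e]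
    have e0 : (X - C (a d)) * (X - C (a d)⁻¹) = (X - C (a 0)) * (X - C (a 0)⁻¹) := by
      simp only [ha, pow_zero, pow_one]
      rcases hper with h | h <;> rw [h]
      rw [inv_inv, mul_comm]
    obtain ⟨m, rfl⟩ := Nat.exists_eq_succ_of_ne_zero (show d ≠ 0 by omega)
    rw [Finset.prod_range_succ, e0,
      Finset.prod_range_succ' (fun i => (X - C (a i)) * (X - C (a i)⁻¹)) m]
  obtain ⟨P, hP⟩ : ∃ P : F[X], P.map (algebraMap F (AlgebraicClosure F)) = PK := by
    refine (mem_lifts PK).1 ((lifts_iff_coeff_lifts PK).2 fun n => mem_range_of_frob ?_)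
    conv_rhs => rw [← hfix, coeff_map]
    rfl
  set M : Multiset (AlgebraicClosure F) :=
    (Finset.range d).val.map a + ((Finset.range d).val.map a).map (fun y => y⁻¹) with hM
  have hPM : PK = (M.map fun y => X - C y).prod := by
    rw [hPK, Finset.prod_mul_distrib, hM, Multiset.map_add, Multiset.prod_add, Multiset.map_map,
      Multiset.map_map, Multiset.map_map]
    rfl
  have hM0 : ∀ y ∈ M, y ≠ 0 := by
    intro y hy
    rcases Multiset.mem_add.1 hy with h | h
    · obtain ⟨i, -, rfl⟩ := Multiset.mem_map.1 h; exact ha0 i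
    · obtain ⟨w, hw, rfl⟩ := Multiset.mem_map.1 h
      obtain ⟨i, -, rfl⟩ := Multiset.mem_map.1 hw
      exact inv_ne_zero (ha0 i)
  have hinj := (algebraMap F (AlgebraicClosure F)).injective
  have hmon : P.Monic := Polynomial.monic_of_injective hinj
    (by rw [hP, hPM]; exact monic_multiset_prod_of_monic _ _ fun y _ => monic_X_sub_C y)
  have hdeg : P.natDegree = 2 * d := by
    rw [← natDegree_map_eq_of_injective hinj P, hP, hPM, natDegree_multiset_prod_X_sub_C_eq_card, hM]
    simp [two_mul]
  have hrev : P.reverse = P := by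
    refine Polynomial.map_injective _ hinj ?_
    rw [← H44.reverse_map_inj, hP, hPM, H44.reverse_prod_X_sub_C M hM0]
    have e1 : (M.map fun y => -y).prod = 1 := by
      rw [hM, Multiset.map_add, Multiset.prod_add, Multiset.map_map, Multiset.map_map, Multiset.map_map,
        ← Multiset.prod_map_mul]
      refine Multiset.prod_eq_one fun y hy => ?_
      obtain ⟨i, -, rfl⟩ := Multiset.mem_map.1 hy
      show -a i * -(a i)⁻¹ = 1
      rw [neg_mul_neg, mul_inv_cancel₀ (ha0 i)]
    have e2 : M.map (fun y => y⁻¹) = M := by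
      rw [hM, Multiset.map_add, Multiset.map_map, add_comm]
      congr 1
      · rw [Multiset.map_map]
        exact Multiset.map_congr rfl fun i _ => inv_inv _
    rw [e1, e2, C_1, one_mul]
  have hev : ∀ c : F, algebraMap F (AlgebraicClosure F) (P.eval c) =
      clsVal F d z (algebraMap F (AlgebraicClosure F) c) := fun c => by
    rw [← eval₂_at_apply, ← eval_map, hP, hPK, eval_prod]
    exact Finset.prod_congr rfl fun i _ => (pairVal_eq_eval _ _).symm
  obtain ⟨ha1, hb1⟩ := clsVal_one hodd hz.pow_eq_one hz0 hz1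
  obtain ⟨ha2, hb2⟩ := clsVal_neg_one hodd hz.pow_eq_one hz0 hzn
  have e1 := hev 1
  have e2 := hev (-1)
  rw [map_one] at e1
  rw [map_neg, map_one] at e2
  have hP1 : P.eval 1 ≠ 0 := fun h => ha1 (by rw [← e1, h, map_zero])
  have hPn : P.eval (-1) ≠ 0 := fun h => ha2 (by rw [← e2, h, map_zero])
  have hqn : qc (P.eval (-1)) = -1 := by
    simpa using qc_of_pow hodd hPn (h := 1) (by rw [e2, hb2, hzh, pow_one])
  have hqp : qc (P.eval 1 * P.eval (-1)) = (-1) ^ half q d s := by
    refine qc_of_pow hodd (mul_ne_zero hP1 hPn) ?_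
    rw [map_mul, e1, e2, mul_pow, hb1, hb2, neg_pow, hzh]
    ring
  obtain ⟨T, hT, hTchi⟩ := H44.Cls.exists_tri_free h2 ⟨hmon, by rw [hdeg]; exact even_two_mul d, hrev⟩ hP1 hPn hdeg
  have hfr : Module.finrank F T.V = 2 * d := by rw [H44.Cls.finrank_eq_natDegree, hT, hdeg]
  have hk : H44.Cls.kappa F d = 1 := by
    rw [H44.Cls.kappa, det_J_eq_one, (qc_eq_one_iff _).2 IsSquare.one]
  rw [hk, mul_one] at hTchi
  have h1T : T.g.charpoly.eval 1 ≠ 0 := by rw [hT]; exact hP1
  refine ⟨T, hfr, by rw [hTchi, hqp], by rw [det_free h1T, hfr, (even_two_mul d).neg_one_pow], fun h => ?_, ?_⟩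
  · have h' := (inOm_free_iff h2 h1T (by rw [hfr]; exact even_two_mul d)).1
      ⟨by rw [det_free h1T, hfr, (even_two_mul d).neg_one_pow], h⟩
    rw [hTchi, hT, qc_mul hP1 hPn, hqn] at h'
    rcases qc_cases (P.eval 1) with e | e <;> rw [e] at h' <;> omega
  · rw [hz.eq_orderOf]
    refine orderOf_dvd_of_pow_eq_one (rts_root_pow (pow_orderOf_eq_one T.g) ?_)
    rw [mem_rts, hT, hP, hPK, eval_prod]
    exact Finset.prod_eq_zero (Finset.mem_range.2 (show 0 < d by omega)) (by simp [ha])

end H33.Iso9
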