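import Mathlib
import Cfsg.Agent.H33.Iso9.Pieces

/-!
Witnesses for the element orders of `V : Ω₈⁻`.
-/

set_option autoImplicit false

namespace H33.Iso9

open H43 Polynomial
open H44.Cls (Tri qc qc_mul qc_cases)

universe u

variable {F : Type u} [Field F] [Fintype F]

/-- Two pieces together have trivial spinor norm. -/
theorem exists_pair (hodd : Odd (Fintype.card F)) {d d' : ℕ} (hd : 1 ≤ d) (hd' : 1 ≤ d') (s s' : Bool) :
    ∃ X : Tri F (1 : F), Module.finrank F X.V = 2 * d + 2 * d' ∧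
      X.chi = (-1) ^ (half (Fintype.card F) d s + half (Fintype.card F) d' s') ∧ InOm X ∧
      Nat.lcm (expo (Fintype.card F) d s) (expo (Fintype.card F) d' s') ∣ orderOf X.g := by
  have h2 := H43.two_ne_zero_of_odd_card hodd
  obtain ⟨A, hA, hAc, hAd, hAs, hAo⟩ := exists_piece hodd hd s
  obtain ⟨B, hB, hBc, hBd, hBs, hBo⟩ := exists_piece hodd hd' s'
  refine ⟨A.sum B, by rw [finrank_sum, hA, hB], by rw [H44.Cls.Tri.chi_sum, hAc, hBc, pow_add],
    ⟨by rw [det_sum, hAd, hBd, one_mul], ?_⟩, ?_⟩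
  · rw [spinor_sum h2]
    exact H44.sqClass_mul_of_ne_one hAs hBs
  · rw [orderOf_sum]
    exact Nat.lcm_dvd (hAo.trans (Nat.dvd_lcm_left _ _)) (hBo.trans (Nat.dvd_lcm_right _ _))

/-- Two pieces filling the whole space. -/
theorem S8_pair_full (hodd : Odd (Fintype.card F)) (p : ℕ) {d d' : ℕ} (hd : 1 ≤ d) (hd' : 1 ≤ d')
    (hdd : d + d' = 4) (s s' : Bool)
    (hpar : Odd (half (Fintype.card F) d s + half (Fintype.card F) d' s')) :
    S8 p F (Nat.lcm (expo (Fintype.card F) d s) (expo (Fintype.card F) d' s')) := by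
  obtain ⟨X, hX, hXc, hXO, hXo⟩ := exists_pair hodd hd hd' s s'
  refine ⟨X, 0, by omega, by rw [hXc, hpar.neg_one_pow], hXO, hXo.trans ?_⟩
  rw [ordv, if_pos (map_zero _)]

/-- Two pieces and a translation. -/
theorem S8_pair_trans (hodd : Odd (Fintype.card F)) {p : ℕ} [Fact p.Prime] [CharP F p] {d d' : ℕ}
    (hd : 1 ≤ d) (hd' : 1 ≤ d') (s s' : Bool) {f : ℕ} (hlt : 2 * d + 2 * d' + p ^ f < 8) :
    S8 p F (Nat.lcm (Nat.lcm (expo (Fintype.card F) d s) (expo (Fintype.card F) d' s')) (p ^ (f + 1))) := by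
  obtain ⟨X, hX, -, hXO, hXo⟩ := exists_pair hodd hd hd' s s'
  exact (S8_of_trans (H43.two_ne_zero_of_odd_card hodd) hXO f (by omega)).of_dvd
    (Nat.lcm_dvd (hXo.trans (Nat.dvd_lcm_left _ _)) (Nat.dvd_lcm_right _ _))

variable (hodd : Odd (Fintype.card F)) {p : ℕ} [Fact p.Prime] [CharP F p]

include hodd

theorem S8_two (s : Bool) : S8 p F (Nat.lcm (Nat.lcm (Fintype.card F ^ 2 + 1) (expo (Fintype.card F) 1 s)) p) := by
  have h := S8_pair_trans (p := p) hodd (d := 2) (d' := 1) (by norm_num) le_rfl true s (f := 0) (by norm_num)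
  simpa [expo] using h

theorem S8_two_split : S8 p F (Nat.lcm (Fintype.card F ^ 2 - 1) p) := by
  have h := S8_pair_trans (p := p) hodd (d := 2) (d' := 1) (by norm_num) le_rfl false false (f := 0) (by norm_num)
  simp [expo] at h
  exact h.of_dvd (Nat.lcm_dvd ((Nat.dvd_lcm_left _ _).trans (Nat.dvd_lcm_left _ _)) (Nat.dvd_lcm_right _ _))

theorem S8_three (h3 : p = 3) (s : Bool) : S8 p F (Nat.lcm (expo (Fintype.card F) 1 s) (p ^ 2)) := by
  refine (S8_pair_trans (p := p) hodd (d := 1) (d' := 1) le_rfl le_rfl true false (f := 1)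
    (by subst h3; norm_num)).of_dvd (Nat.lcm_dvd ?_ (Nat.dvd_lcm_right _ _))
  refine dvd_trans ?_ (Nat.dvd_lcm_left _ _)
  cases s
  · exact Nat.dvd_lcm_right _ _
  · exact Nat.dvd_lcm_left _ _

theorem S8_five (h5 : p = 5) : S8 p F (Nat.lcm 2 (p ^ 2)) := by
  have h2 := H43.two_ne_zero_of_odd_card hodd
  have hm : (-1 : F) * -1 = 1 := by ring
  set X := H44.Cls.plane (-1 : F) 1 hm one_ne_zero with hX
  have hfr : Module.finrank F X.V = 2 := Module.finrank_fin_fun F
  have hP : X.g.charpoly.eval 1 = 2 * 2 := by rw [hX, H44.Cls.plane_charpoly]; simp; ring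
  have hP0 : X.g.charpoly.eval 1 ≠ 0 := by rw [hP]; exact mul_ne_zero h2 h2
  have hO : InOm X := by
    rw [inOm_free_iff h2 hP0 (by rw [hfr]; exact even_two), hP, hX, H44.Cls.plane_chi,
      (qc_eq_one_iff _).2 IsSquare.one, (qc_eq_one_iff _).2 ⟨2, rfl⟩, one_mul]
  have ho : 2 ∣ orderOf X.g := by
    have hgn : ∀ y : Fin 2 → F, Matrix.toLin' (Matrix.diagonal fun _ : Fin 2 => (-1 : F)) y = -y := fun y => by
      funext i; simp [Matrix.mulVec_diagonal]
    have hg2 : X.g ^ 2 = 1 := LinearMap.ext fun x => by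
      rw [pow_two, Module.End.mul_apply]
      exact ((hgn _).trans (congrArg Neg.neg (hgn x))).trans (neg_neg _)
    have hne : X.g ≠ 1 := fun h => h2 (by
      have e := congrFun ((hgn (fun _ => (1 : F))).symm.trans (LinearMap.congr_fun h _)) 0
      have e' : (-1 : F) = 1 := e
      linear_combination -e')
    rw [orderOf_eq_prime hg2 hne]
  exact (S8_of_trans h2 hO 1 (by rw [hfr, h5]; norm_num)).of_dvd
    (Nat.lcm_dvd (ho.trans (Nat.dvd_lcm_left _ _)) (Nat.dvd_lcm_right _ _))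

omit [Fact p.Prime] [CharP F p]

theorem S8_four : S8 p F (Nat.lcm (Fintype.card F ^ 2 + 1) (Fintype.card F ^ 2 - 1)) := by
  have hpar : Odd (half (Fintype.card F) 2 true + half (Fintype.card F) 2 false) := by
    obtain ⟨k, hk⟩ := hodd
    have e : Fintype.card F ^ 2 = 2 * (2 * k * k + 2 * k) + 1 := by rw [hk]; ring
    simp only [half, e, if_true, Bool.false_eq_true, if_false]
    rw [Nat.odd_iff]
    omega
  simpa [expo] using S8_pair_full hodd p (by norm_num) (by norm_num) (by norm_num) true false hpar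

theorem S8_three_one (s : Bool) :
    S8 p F (Nat.lcm (expo (Fintype.card F) 3 s) (expo (Fintype.card F) 1 (!s))) := by
  refine S8_pair_full hodd p (by norm_num) le_rfl (by norm_num) s (!s) ?_
  obtain ⟨k, hk⟩ := hodd
  have e : Fintype.card F ^ 3 = 2 * (4 * k ^ 3 + 6 * k ^ 2 + 3 * k) + 1 := by rw [hk]; ring
  rw [Nat.odd_iff]
  cases s <;> simp [half, e] <;> omega

end H33.Iso9
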