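import Mathlib
import Cfsg.Agent.H33.Iso9.Witness

/-!
An element of `Ω⁺₈` without eigenvalue `1` has an order found in `V : Ω₈⁻`.
-/

set_option autoImplicit false

namespace H33.Iso9

open H43 Polynomial
open H44.Cls (Tri qc qc_mul qc_cases)

universe u

variable {F : Type u} [Field F]

theorem det_free_neg {T : Tri F (1 : F)} (h1 : T.g.charpoly.eval (-1) ≠ 0) : LinearMap.det T.g = 1 := by
  classical
  let b := Module.finBasis F T.V
  set A := LinearMap.toMatrix b b T.g with hAdef
  have hA : A.transpose * T.gram b * A = T.gram b := by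
    have hG : T.gram b = LinearMap.BilinForm.toMatrix b T.B := by
      ext i j
      rw [LinearMap.BilinForm.toMatrix_apply]; rfl
    rw [hG, hAdef, ← LinearMap.BilinForm.toMatrix_comp b b]
    congr 1
    exact LinearMap.ext₂ fun x y => T.iso x y
  have h1' : (1 + A).det ≠ 0 := by
    have := h1
    rw [← LinearMap.charpoly_toMatrix T.g b, Matrix.eval_charpoly, map_neg, map_one, ← hAdef,
      show (-1 - A) = -(1 + A) by abel, Matrix.det_neg] at this
    exact right_ne_zero_of_mul this
  have e : A.transpose * T.gram b * (1 + A) = (1 + A).transpose * T.gram b := by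
    rw [mul_add, hA, mul_one, Matrix.transpose_add, Matrix.transpose_one, add_mul, one_mul]
    abel
  have hd := congrArg Matrix.det e
  rw [Matrix.det_mul, Matrix.det_mul, Matrix.det_mul, Matrix.det_transpose, Matrix.det_transpose] at hd
  rw [← LinearMap.det_toMatrix b, ← hAdef]
  refine mul_right_cancel₀ (mul_ne_zero h1' (T.gram_det_ne b)) ?_
  linear_combination hd

/-- In even dimension an eigenvalue `-1` never has a single Jordan block. -/
theorem neg_index {T : Tri F (1 : F)} (h2 : (2 : F) ≠ 0) (hev : Even (Module.finrank F T.V))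
    (h : (T.g - (-1 : F) • 1) ^ Module.finrank F T.V = 0) :
    (T.g - (-1 : F) • 1) ^ (Module.finrank F T.V - 1) = 0 := by
  set k := Module.finrank F T.V with hk
  set N : Module.End F T.V := T.g - (-1 : F) • 1 with hN
  rcases Nat.eq_zero_or_pos k with h0 | hpos
  · simpa [h0] using h
  set m := k - 1 with hm
  have hmk : m + 1 = k := by omega
  have hmodd : Odd m := by obtain ⟨j, hj⟩ := hev; exact ⟨j - 1, by omega⟩
  have hN' : N = T.g + 1 := by rw [hN, neg_one_smul, sub_neg_eq_add]
  set R := LinearMap.range N with hR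
  by_contra hne
  obtain ⟨x, hx⟩ : ∃ x, (N ^ m) x ≠ 0 := by
    by_contra h'
    push Not at h'
    exact hne (LinearMap.ext fun z => h' z)
  have hstab : ∀ z ∈ R, N z ∈ R := fun z _ => LinearMap.mem_range_self N z
  have hRdim : m ≤ Module.finrank F R := by
    by_contra hlt
    push Not at hlt
    refine hx ?_
    obtain ⟨j, hj⟩ : ∃ j, m = j + 1 := ⟨m - 1, by omega⟩
    have hpow : ∀ (i : ℕ) (z : R), (((N.restrict hstab) ^ i) z : T.V) = (N ^ i) z := by
      intro i
      induction i with
      | zero => intro z; rfl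
      | succ i ih =>
        intro z
        rw [pow_succ, pow_succ, Module.End.mul_apply, Module.End.mul_apply, ih]
        rfl
    have hz : (N.restrict hstab) ^ j = 0 := by
      refine LinearMap.ext fun z => ?_
      have hz : z ∈ LinearMap.ker ((N.restrict hstab) ^ k) := LinearMap.mem_ker.2 (Subtype.ext (by
        rw [hpow, h]; rfl))
      rw [Module.End.ker_pow_eq_ker_pow_finrank_of_le (by omega),
        ← Module.End.ker_pow_eq_ker_pow_finrank_of_le (m := j) (by omega)] at hz
      exact hz
    rw [hj, pow_succ, Module.End.mul_apply, ← hpow j ⟨N x, LinearMap.mem_range_self N x⟩, hz]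
    rfl
  have hxR : x ∉ R := by
    rintro ⟨z, rfl⟩
    refine hx ?_
    rw [← Module.End.mul_apply, ← pow_succ, hmk, h, LinearMap.zero_apply]
  have htop : R ⊔ (F ∙ x) = ⊤ := by
    refine Submodule.eq_top_of_finrank_eq (le_antisymm (Submodule.finrank_le _) ?_)
    have : R < R ⊔ (F ∙ x) := lt_of_le_not_ge le_sup_left fun hle =>
      hxR (hle (Submodule.mem_sup_right (Submodule.mem_span_singleton_self x)))
    have := Submodule.finrank_lt_finrank_of_lt this
    omega
  -- `(y, z) ↦ B (N ^ m y) z` is alternating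
  have hswap : ∀ y z, T.B ((N ^ m) y) z = -T.B ((N ^ m) z) y := by
    intro y z
    have hgi : aeval T.gi (X + 1 : F[X]) = T.gi * N := by
      rw [map_add, aeval_X, map_one, hN', mul_add, T.gi_mul_g, mul_one, add_comm]
    have hco : Commute T.gi N := by
      have hgg : Commute T.gi T.g := T.gi_mul_g.trans T.g_mul_gi.symm
      rw [hN']
      exact hgg.add_right (Commute.one_right _)
    have hNe : aeval T.g (X + 1 : F[X]) = N := by rw [map_add, aeval_X, map_one, hN']
    have hfix : ∀ i, (T.gi ^ i) ((N ^ m) z) = ((-1 : F) ^ i) • (N ^ m) z := by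
      intro i
      induction i with
      | zero => simp
      | succ i ih =>
        have h0 : T.g ((N ^ m) z) = -((N ^ m) z) := by
          have h' : N ((N ^ m) z) = 0 := by
            rw [← Module.End.mul_apply, ← pow_succ', hmk, h, LinearMap.zero_apply]
          rw [hN', LinearMap.add_apply, Module.End.one_apply] at h'
          exact eq_neg_of_add_eq_zero_left (by rwa [hN'])
        have h1 : T.gi ((N ^ m) z) = -((N ^ m) z) := by
          have := congrArg T.gi h0
          rw [T.gi_g, map_neg] at this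
          exact (neg_eq_iff_eq_neg.2 this).symm
        rw [pow_succ', Module.End.mul_apply, ih, map_smul, h1, smul_neg, pow_succ', neg_one_mul, neg_smul]
    have e := T.adj ((X + 1 : F[X]) ^ m) y z
    rw [map_pow, map_pow, hNe, hgi, hco.mul_pow, Module.End.mul_apply, hfix, map_smul, hmodd.neg_one_pow,
      neg_one_smul] at e
    rw [e, sym' T y]
  refine hx (T.nd _ fun y => ?_)
  obtain ⟨r, ⟨z, rfl⟩, s, hs, rfl⟩ := Submodule.mem_sup.1 (htop ▸ Submodule.mem_top : y ∈ R ⊔ (F ∙ x))
  obtain ⟨a, rfl⟩ := Submodule.mem_span_singleton.1 hs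
  have hxx : T.B ((N ^ m) x) x = 0 := by
    have := hswap x x
    have h2' : (2 : F) * T.B ((N ^ m) x) x = 0 := by linear_combination this
    exact (mul_eq_zero.1 h2').resolve_left h2
  rw [map_add, map_smul, hxx, smul_zero, add_zero, hswap, ← Module.End.mul_apply, ← pow_succ, hmk, h,
    LinearMap.zero_apply, map_zero, LinearMap.zero_apply, neg_zero]

variable [Fintype F]

theorem Cls.prod_eq {T : Tri F (1 : F)} {d : ℕ} {x : AlgebraicClosure F} (h : Cls T d x)
    (f : AlgebraicClosure F → AlgebraicClosure F) :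
    ∏ y ∈ cls F d x, f y =
      ∏ i ∈ Finset.range d, f (x ^ Fintype.card F ^ i) * f ((x ^ Fintype.card F ^ i)⁻¹) := by
  classical
  have hc := h.card
  rw [cls] at hc ⊢
  set A := (Finset.range d).image (fun i => x ^ Fintype.card F ^ i) with hA
  set B := (Finset.range d).image (fun i => x⁻¹ ^ Fintype.card F ^ i) with hB
  have hAle : A.card ≤ d := Finset.card_image_le.trans (Finset.card_range d).le
  have hBle : B.card ≤ d := Finset.card_image_le.trans (Finset.card_range d).le
  have hui := Finset.card_union_add_card_inter A B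
  have hAc : A.card = (Finset.range d).card := by rw [Finset.card_range]; omega
  have hBc : B.card = (Finset.range d).card := by rw [Finset.card_range]; omega
  have hdis : Disjoint A B :=
    Finset.disjoint_iff_inter_eq_empty.2 (Finset.card_eq_zero.1 (by omega))
  rw [Finset.prod_union hdis, hA, hB, Finset.prod_image (Finset.card_image_iff.1 hAc),
    Finset.prod_image (Finset.card_image_iff.1 hBc), Finset.prod_mul_distrib]
  simp only [inv_pow]

theorem coprime_expo {p : ℕ} [hp : Fact p.Prime] [CharP F p] {d : ℕ} (hd : 1 ≤ d) (s : Bool) :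
    Nat.Coprime (expo (Fintype.card F) d s) p := by
  have hpq : p ∣ Fintype.card F ^ d := by
    refine dvd_pow ((CharP.cast_eq_zero_iff F p _).1 (FiniteField.cast_card_eq_zero F)) (by omega)
  refine Nat.Coprime.symm ((hp.out.coprime_iff_not_dvd).2 fun h => hp.out.one_lt.ne' (Nat.dvd_one.1 ?_))
  have h1 : 1 ≤ Fintype.card F ^ d := Nat.one_le_pow _ _ Fintype.card_pos
  cases s
  · simp only [expo, Bool.false_eq_true, if_false] at h
    have := Nat.dvd_sub hpq h
    rwa [show Fintype.card F ^ d - (Fintype.card F ^ d - 1) = 1 by omega] at this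
  · simp only [expo, if_true] at h
    exact (Nat.dvd_add_right hpq).1 h

theorem one_of_dvd {M : Type*} [Monoid M] {a : M} {m n : ℕ} (h : m ∣ n) (hm : a ^ m = 1) : a ^ n = 1 := by
  obtain ⟨c, rfl⟩ := h
  rw [pow_mul, hm, one_pow]

theorem coprime_lcm {a b c : ℕ} (ha : Nat.Coprime a c) (hb : Nat.Coprime b c) :
    Nat.Coprime (Nat.lcm a b) c :=
  Nat.Coprime.coprime_dvd_left (Nat.lcm_dvd_mul a b) (ha.mul_left hb)

theorem expo_one_dvd_two (q : ℕ) (s : Bool) : expo q 1 s ∣ q ^ 2 - 1 := by
  cases s <;> simp only [expo, pow_one, Bool.false_eq_true, if_false, if_true]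
  · simpa using Nat.sub_dvd_pow_sub_pow q 1 2
  · rw [show q ^ 2 - 1 = (q + 1) * (q - 1) by
      have := Nat.sq_sub_sq q 1
      simpa using this]
    exact dvd_mul_right _ _

theorem expo_one_dvd_three (q : ℕ) (s : Bool) : expo q 1 s ∣ expo q 3 s := by
  cases s <;> simp only [expo, pow_one, Bool.false_eq_true, if_false, if_true]
  · simpa using Nat.sub_dvd_pow_sub_pow q 1 3
  · simpa using Odd.nat_add_dvd_pow_add_pow q 1 (show Odd 3 by decide)

theorem even_expo {q : ℕ} (hq : Odd q) (d : ℕ) (s : Bool) : 2 ∣ expo q d s :=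
  ⟨_, (two_mul_half hq d s).symm⟩

theorem half_four_dvd {q : ℕ} (hq : Odd q) :
    half q 4 false ∣ Nat.lcm (q ^ 2 + 1) (q ^ 2 - 1) := by
  obtain ⟨t, ht⟩ : ∃ t, q ^ 2 = 2 * t + 1 := by
    obtain ⟨t, ht⟩ := hq.pow (n := 2); exact ⟨t, ht⟩
  have hg : Nat.gcd (q ^ 2 + 1) (q ^ 2 - 1) = 2 := by
    refine Nat.dvd_antisymm ?_ (Nat.dvd_gcd (by omega) (by omega))
    have := Nat.dvd_sub (Nat.gcd_dvd_left (q ^ 2 + 1) (q ^ 2 - 1)) (Nat.gcd_dvd_right (q ^ 2 + 1) (q ^ 2 - 1))
    rwa [show q ^ 2 + 1 - (q ^ 2 - 1) = 2 by omega] at this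
  have hm := Nat.gcd_mul_lcm (q ^ 2 + 1) (q ^ 2 - 1)
  rw [hg, show (q ^ 2 + 1) * (q ^ 2 - 1) = q ^ 4 - 1 by
    have := Nat.sq_sub_sq (q ^ 2) 1
    simpa [← pow_mul] using this.symm] at hm
  refine dvd_of_eq ?_
  simp only [half, Bool.false_eq_true, if_false]
  omega

/-- The case of `Ω⁺₈` without eigenvalue `1`. -/
theorem plus_core (hodd : Odd (Fintype.card F)) {p : ℕ} [hp : Fact p.Prime] [CharP F p] {U : Tri F (1 : F)}
    (hdim : Module.finrank F U.V = 8) (h1 : U.g.charpoly.eval 1 ≠ 0) (hchi : U.chi = 1) (hU : InOm U) :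
    S8 p F (orderOf U.g) := by
  classical
  have h2 := H43.two_ne_zero_of_odd_card hodd
  set q := Fintype.card F with hq
  have hq3 : 3 ≤ q := by
    obtain ⟨k, hk⟩ := hodd
    have : 1 < q := Fintype.one_lt_card
    omega
  have hp2 : p ≠ 2 := fun h => h2 (by subst h; exact_mod_cast CharP.cast_eq_zero F 2)
  have hp3 : 3 ≤ p := by have := hp.out.two_le; omega
  obtain ⟨U0, U1, he, h0, hn1⟩ := exists_fit U (c := (-1 : F)) (by ring)
  have hcp : U.g.charpoly = U0.g.charpoly * U1.g.charpoly := by
    rw [H44.Cls.Tri.Eqv.charpoly_eq he, H44.Cls.charpoly_sum]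
  rw [hcp, eval_mul, mul_ne_zero_iff] at h1
  obtain ⟨h10, h11⟩ := h1
  have hsum : Module.finrank F U0.V + Module.finrank F U1.V = 8 := by rw [← finrank_sum, ← finrank_eqv he, hdim]
  set k := Module.finrank F U0.V with hk
  set n := Module.finrank F U1.V with hn
  have hn_even : Even n := by
    have e := (det_free h11).symm.trans (det_free_neg hn1)
    exact (neg_one_pow_eq_one_iff_even (fun h => h2 (by linear_combination -h))).1 e
  have hk_even : Even k := by obtain ⟨j, hj⟩ := hn_even; exact ⟨4 - j, by omega⟩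
  have hnil : (U0.g - (-1 : F) • 1) ^ k = 0 := by
    refine LinearMap.ext fun x => ?_
    have hx : x ∈ LinearMap.ker ((U0.g - (-1 : F) • 1) ^ Module.finrank F U.V) := by rw [h0]; simp
    rw [Module.End.ker_pow_eq_ker_pow_finrank_of_le (by omega)] at hx
    exact hx
  have hord : orderOf U.g = Nat.lcm (orderOf U0.g) (orderOf U1.g) := by
    rw [orderOf_eqv he, orderOf_sum]
  -- the bound on the order
  have bound : ∀ M e : ℕ, 2 ∣ M → 0 < M → (∀ y ∈ rts U1, y ^ M = 1 ∧ (rts U1).count y ≤ p ^ e) →
      k - 1 ≤ p ^ e → orderOf U.g ∣ M * p ^ e := by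
    intro M e hM2 hM hy hke
    rw [hord]
    refine Nat.lcm_dvd ?_ (orderOf_dvd_of_pow_eq_one (pow_eq_one_of_rts hM hy))
    refine orderOf_dvd_of_pow_eq_one ?_
    have hN : (U0.g - (-1 : F) • 1) ^ p ^ e = 0 :=
      pow_eq_zero_of_le hke (neg_index h2 hk_even hnil)
    have hgp : U0.g ^ p ^ e = (-1 : F) • 1 := by
      have := sub_pow_aeval (p := p) U0.g (-1 : F) e
      rw [hN, ((hp.out.odd_of_ne_two hp2).pow).neg_one_pow] at this
      exact sub_eq_zero.1 this.symm
    obtain ⟨M', rfl⟩ := hM2
    rw [mul_comm, pow_mul, hgp, pow_mul, _root_.smul_pow, neg_one_sq, one_pow, one_smul, one_pow]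
  have cop : ∀ M e : ℕ, Nat.Coprime M p → M * p ^ e ∣ Nat.lcm M (p ^ e) := fun M e h => by
    rw [(Nat.Coprime.pow_right e h).lcm_eq_mul]
  have hcls : ∀ y ∈ rts U1, ∃ d, Cls U1 d y := fun y hy => exists_cls hy fun h => by
    rcases mul_self_eq_one_iff.1 h with e | e
    · exact rts_ne h11 hy (by rw [map_one]; exact e)
    · exact rts_ne hn1 hy (by rw [map_neg, map_one]; exact e)
  by_cases h4 : ∃ y d, Cls U1 d y ∧ 4 ≤ d
  · -- one class of size eight
    obtain ⟨x, d, hx, hd⟩ := h4
    have hw := hx.weight_le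
    have hc1 : 1 ≤ (rts U1).count x := hx.count_pos
    have hdc : 4 * 1 ≤ d * (rts U1).count x := Nat.mul_le_mul hd hc1
    have hd4 : d = 4 := by
      have : d * 1 ≤ d * (rts U1).count x := Nat.mul_le_mul_left d hc1
      nlinarith
    subst hd4
    have hc : (rts U1).count x = 1 := by omega
    have hk0 : k = 0 := by omega
    have hout : ∀ z ∈ rts U1, z ∈ cls F 4 x := by
      intro z hz
      by_contra hzn
      obtain ⟨e, hz'⟩ := hcls z hz
      have := hx.weight_two hz' hzn
      have := Nat.mul_le_mul (Nat.mul_le_mul_left 2 hz'.pos) hz'.count_pos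
      omega
    have hrts : rts U1 = (cls F 4 x).val := by
      ext z
      by_cases hz : z ∈ cls F 4 x
      · rw [hx.count_eq hz, hc, Multiset.count_eq_one_of_mem (cls F 4 x).nodup (show z ∈ (cls F 4 x).val from hz)]
      · rw [Multiset.count_eq_zero.2 (fun h => hz (hout z h)),
          Multiset.count_eq_zero.2 (fun h => hz (show z ∈ cls F 4 x from h))]
    have hev : ∀ c : F, algebraMap F (AlgebraicClosure F) (U1.g.charpoly.eval c) =
        clsVal F 4 x (algebraMap F (AlgebraicClosure F) c) := by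
      intro c
      rw [← eval₂_at_apply, ← eval_map, rts_eq_prod, hrts, ← Finset.prod_eq_multiset_prod, eval_prod,
        hx.prod_eq]
      exact Finset.prod_congr rfl fun i _ => by simp [pairVal]
    have hx0 := rts_ne_zero hx.mem
    have hx1 : x ≠ 1 := fun e => rts_ne h11 hx.mem (by rw [map_one]; exact e)
    have hxn : x ≠ -1 := fun e => rts_ne hn1 hx.mem (by rw [map_neg, map_one]; exact e)
    obtain ⟨s, hs⟩ := expo_of_per hx0 hx.per
    obtain ⟨-, hb1⟩ := clsVal_one hodd hs hx0 hx1
    obtain ⟨-, hb2⟩ := clsVal_neg_one hodd hs hx0 hxn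
    have hU1 : InOm U1 ∧ U1.chi = 1 := by
      have hsub : Subsingleton U0.V := Module.finrank_zero_iff.1 hk0
      have hg0 : U0.g = 1 := LinearMap.ext fun z => Subsingleton.elim _ _
      refine ⟨?_, ?_⟩
      · have hsw : (U0.sum U1).Eqv (U1.sum U0) :=
          let sw : (U0.sum U1).V ≃ₗ[F] (U1.sum U0).V := LinearEquiv.prodComm F U0.V U1.V
          ⟨sw, fun _ => rfl, fun _ _ => add_comm _ _⟩
        exact (hU.eqv h2 (he.trans hsw)).of_sum h2
          (inOm_of_odd h2 odd_one (by rw [pow_one, hg0]))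
      · have := H44.Cls.Tri.Eqv.chi_eq he
        rw [H44.Cls.Tri.chi_sum, hchi] at this
        have e0 : U0.chi = 1 := by
          have : IsEmpty (Fin (Module.finrank F U0.V)) := by rw [← hk, hk0]; infer_instance
          rw [Tri.chi, Matrix.det_isEmpty, (qc_eq_one_iff _).2 IsSquare.one]
        rw [e0, one_mul] at this
        exact this.symm
    have hev1 : n = 8 := by omega
    have hchi1 := chi_free hodd h11 hn1 (by rw [← hn, hev1]; decide)
    have hin := (inOm_free_iff h2 h11 (by rw [← hn, hev1]; decide)).1 hU1.1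
    rw [hU1.2] at hin hchi1
    rw [one_mul] at hin
    have hh2 : x ^ half q 4 s * x ^ half q 4 s = 1 := by
      rw [← pow_add, ← two_mul, two_mul_half hodd, hs]
    have hprod : qc (U1.g.charpoly.eval 1 * U1.g.charpoly.eval (-1)) = (-1) ^ half q 4 s := by
      refine qc_of_pow hodd (mul_ne_zero h11 hn1) ?_
      rw [map_mul, mul_pow, hev, hev, map_one, map_neg, map_one, hb1, hb2, neg_pow, mul_assoc, hh2, mul_one]
    rw [← hchi1] at hprod
    have hse : s = false := by
      cases s
      · rfl
      · exfalso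
        have : Odd (half q 4 true) := by
          obtain ⟨t, ht⟩ := hodd
          have e : q ^ 4 = 2 * (8 * t ^ 4 + 16 * t ^ 3 + 12 * t ^ 2 + 4 * t) + 1 := by rw [ht]; ring
          rw [Nat.odd_iff]; simp only [half, if_true, e]; omega
        rw [this.neg_one_pow] at hprod
        omega
    subst hse
    have hqn : qc (U1.g.charpoly.eval (-1)) = 1 := by
      rw [qc_mul h11 hn1, hin, one_mul] at hchi1
      exact hchi1.symm
    have hxh : x ^ half q 4 false = 1 := by
      rcases mul_self_eq_one_iff.1 hh2 with e | e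
      · exact e
      · have := qc_of_pow hodd hn1 (h := 1) (by rw [hev, map_neg, map_one, hb2, e, pow_one])
        rw [hqn] at this
        norm_num at this
    have hMpos : 0 < half q 4 false := by
      have := expo_pos (show 1 < q by omega) (show 1 ≤ 4 by norm_num) false
      have := two_mul_half hodd 4 false
      omega
    have hM2 : 2 ∣ half q 4 false := by
      obtain ⟨t, ht⟩ := hodd
      have e : q ^ 4 = 2 * (8 * t ^ 4 + 16 * t ^ 3 + 12 * t ^ 2 + 4 * t) + 1 := by rw [ht]; ring
      simp only [half, Bool.false_eq_true, if_false, e]; omega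
    have := bound (half q 4 false) 0 hM2 hMpos
      (fun y hy => ⟨hx.pow_eq_one hxh (hout y hy), by rw [hx.count_eq (hout y hy), hc, pow_zero]⟩) (by omega)
    rw [pow_zero, mul_one] at this
    exact (S8_four hodd).of_dvd (this.trans (half_four_dvd hodd))
  push Not at h4
  by_cases h3 : ∃ y, Cls U1 3 y
  · -- one class of size six
    obtain ⟨x, hx⟩ := h3
    have hw := hx.weight_le
    have hc1 := hx.count_pos
    have hc : (rts U1).count x = 1 := by omega
    obtain ⟨s, hs⟩ := expo_of_per (rts_ne_zero hx.mem) hx.per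
    have hroots : ∀ z ∈ rts U1, z ^ Nat.lcm (expo q 3 s) (expo q 1 (!s)) = 1 ∧ (rts U1).count z ≤ 1 := by
      intro z hz
      by_cases hzx : z ∈ cls F 3 x
      · exact ⟨one_of_dvd (Nat.dvd_lcm_left _ _) (hx.pow_eq_one hs hzx),
          by rw [hx.count_eq hzx, hc]⟩
      · obtain ⟨e, hz'⟩ := hcls z hz
        have hw2 := hx.weight_two hz' hzx
        have hcz := hz'.count_pos
        have hez := hz'.pos
        have he1 : e = 1 := by
          by_contra hne
          have : 2 * 2 * 1 ≤ 2 * e * (rts U1).count z := Nat.mul_le_mul (by omega) hcz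
          omega
        subst he1
        obtain ⟨s', hs'⟩ := expo_of_per (rts_ne_zero hz'.mem) hz'.per
        refine ⟨one_of_dvd ?_ hs', by omega⟩
        by_cases hss : s' = s
        · subst hss
          exact (expo_one_dvd_three q _).trans (Nat.dvd_lcm_left _ _)
        · rw [Bool.eq_not_iff.2 hss]
          exact Nat.dvd_lcm_right _ _
    have := bound _ 0 ((even_expo hodd 3 s).trans (Nat.dvd_lcm_left _ _))
      (Nat.lcm_pos (expo_pos (show 1 < q by omega) (by norm_num) _) (expo_pos (show 1 < q by omega) le_rfl _))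
      (fun y hy => by rw [pow_zero]; exact hroots y hy) (by rw [pow_zero]; omega)
    rw [pow_zero, mul_one] at this
    exact (S8_three_one hodd s).of_dvd this
  push Not at h3
  have hd2 : ∀ {y d}, Cls U1 d y → d ≤ 2 := fun {y d} h => by
    have := h4 y d h
    by_contra hlt
    exact h3 y ((show d = 3 by omega) ▸ h)
  have hor : ∀ y ∈ rts U1, y ^ (q ^ 2 - 1) = 1 ∨ y ^ (q ^ 2 + 1) = 1 := by
    intro y hy
    obtain ⟨d, hy'⟩ := hcls y hy
    obtain ⟨s, hs⟩ := expo_of_per (rts_ne_zero hy) hy'.per
    have := hd2 hy'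
    have := hy'.pos
    rcases (show d = 1 ∨ d = 2 by omega) with rfl | rfl
    · exact Or.inl (one_of_dvd (expo_one_dvd_two q s) hs)
    · cases s
      · exact Or.inl hs
      · exact Or.inr hs
  by_cases he0 : (∀ y ∈ rts U1, (rts U1).count y ≤ 1) ∧ k ≤ 2
  · have := bound (Nat.lcm (q ^ 2 + 1) (q ^ 2 - 1)) 0
      ((even_expo hodd 2 true).trans (Nat.dvd_lcm_left _ _))
      (Nat.lcm_pos (by positivity) (expo_pos (show 1 < q by omega) (show 1 ≤ 2 by norm_num) false))
      (fun y hy => ⟨(hor y hy).elim (one_of_dvd (Nat.dvd_lcm_right _ _))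
        (one_of_dvd (Nat.dvd_lcm_left _ _)), by rw [pow_zero]; exact he0.1 y hy⟩)
      (by rw [pow_zero]; omega)
    rw [pow_zero, mul_one] at this
    exact (S8_four hodd).of_dvd this
  by_cases he1 : (∀ y ∈ rts U1, (rts U1).count y ≤ p) ∧ k - 1 ≤ p
  · by_cases hsplit : ∀ y ∈ rts U1, y ^ (q ^ 2 - 1) = 1
    · have := bound (q ^ 2 - 1) 1 (even_expo hodd 2 false)
        (expo_pos (show 1 < q by omega) (show 1 ≤ 2 by norm_num) false)
        (fun y hy => ⟨hsplit y hy, by rw [pow_one]; exact he1.1 y hy⟩) (by rw [pow_one]; exact he1.2)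
      have hL := this.trans (cop _ 1 (coprime_expo (F := F) (show 1 ≤ 2 by norm_num) false))
      rw [pow_one] at hL
      exact (S8_two_split hodd).of_dvd hL
    push Not at hsplit
    obtain ⟨x, hxm, hxne⟩ := hsplit
    have hxs : x ^ (q ^ 2 + 1) = 1 := (hor x hxm).resolve_left hxne
    obtain ⟨d, hx⟩ := hcls x hxm
    have hd2' := hd2 hx
    have hdp := hx.pos
    obtain rfl : d = 2 := by
      by_contra hne
      obtain rfl : d = 1 := by omega
      obtain ⟨s, hs⟩ := expo_of_per (rts_ne_zero hxm) hx.per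
      exact hxne (one_of_dvd (expo_one_dvd_two q s) hs)
    have hroots : ∃ s', ∀ z ∈ rts U1, z ^ (q ^ 2 + 1) = 1 ∨ z ^ expo q 1 s' = 1 := by
      by_cases hall : ∀ z ∈ rts U1, z ∈ cls F 2 x
      · exact ⟨false, fun z hz => Or.inl (hx.pow_eq_one hxs (hall z hz))⟩
      push Not at hall
      obtain ⟨z0, hz0, hz0n⟩ := hall
      obtain ⟨e0, hz0'⟩ := hcls z0 hz0
      have hw0 := hx.weight_two hz0' hz0n
      have hcx := hx.count_pos
      have hb0 := Nat.mul_le_mul (Nat.mul_le_mul_left 2 hz0'.pos) hz0'.count_pos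
      have hk2 : k ≤ 2 := by omega
      obtain ⟨w, hwm, hwc⟩ : ∃ w ∈ rts U1, 2 ≤ (rts U1).count w := by
        by_contra hno
        push Not at hno
        exact he0 ⟨fun y hy => Nat.le_of_lt_succ (hno y hy), hk2⟩
      have hwn : w ∉ cls F 2 x := fun hwx => by
        rw [hx.count_eq hwx] at hwc
        omega
      obtain ⟨e, hw'⟩ := hcls w hwm
      have hw2 := hx.weight_two hw' hwn
      have hep := hw'.pos
      obtain rfl : e = 1 := by
        by_contra hne
        have : 2 * 2 * 2 ≤ 2 * e * (rts U1).count w := Nat.mul_le_mul (by omega) hwc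
        omega
      obtain ⟨s', hs'⟩ := expo_of_per (rts_ne_zero hwm) hw'.per
      refine ⟨s', fun z hz => ?_⟩
      by_cases hzx : z ∈ cls F 2 x
      · exact Or.inl (hx.pow_eq_one hxs hzx)
      by_cases hzw : z ∈ cls F 1 w
      · exact Or.inr (hw'.pow_eq_one hs' hzw)
      exfalso
      obtain ⟨e', hz'⟩ := hcls z hz
      have := hx.weight_three hw' hwn hz' hzx hzw
      have := Nat.mul_le_mul (Nat.mul_le_mul_left 2 hz'.pos) hz'.count_pos
      omega
    obtain ⟨s', hs'⟩ := hroots
    have hM : Nat.Coprime (Nat.lcm (q ^ 2 + 1) (expo q 1 s')) p :=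
      coprime_lcm (coprime_expo (F := F) (show 1 ≤ 2 by norm_num) true) (coprime_expo (F := F) le_rfl s')
    have := bound (Nat.lcm (q ^ 2 + 1) (expo q 1 s')) 1
      ((even_expo hodd 2 true).trans (Nat.dvd_lcm_left _ _))
      (Nat.lcm_pos (by positivity) (expo_pos (show 1 < q by omega) le_rfl s'))
      (fun y hy => ⟨(hs' y hy).elim (one_of_dvd (Nat.dvd_lcm_left _ _))
        (one_of_dvd (Nat.dvd_lcm_right _ _)), by rw [pow_one]; exact he1.1 y hy⟩)
      (by rw [pow_one]; exact he1.2)
    have hL := this.trans (cop _ 1 hM)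
    rw [pow_one] at hL
    exact (S8_two hodd s').of_dvd hL
  -- unipotent part of exponent `p²`
  have hc8 : ∀ y ∈ rts U1, (rts U1).count y ≤ p ^ 2 ∧ ((rts U1).count y ≤ p ∨ p = 3) := by
    intro y hy
    obtain ⟨d, hy'⟩ := hcls y hy
    have := hy'.weight_le
    have := Nat.mul_le_mul_right ((rts U1).count y) (Nat.mul_le_mul_left 2 hy'.pos)
    have : 3 * 3 ≤ p ^ 2 := by rw [sq]; exact Nat.mul_le_mul hp3 hp3
    refine ⟨by omega, ?_⟩
    omega
  have hk9 : k - 1 ≤ p ^ 2 := by
    have : 3 * 3 ≤ p ^ 2 := by rw [sq]; exact Nat.mul_le_mul hp3 hp3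
    omega
  by_cases hall : ∃ s, ∀ z ∈ rts U1, z ^ expo q 1 s = 1
  · obtain ⟨s, hs⟩ := hall
    by_cases h3p : p = 3
    · have := bound (expo q 1 s) 2 (even_expo hodd 1 s) (expo_pos (show 1 < q by omega) le_rfl s)
        (fun y hy => ⟨hs y hy, (hc8 y hy).1⟩) hk9
      exact (S8_three hodd h3p s).of_dvd (this.trans (cop _ 2 (coprime_expo (F := F) le_rfl s)))
    · -- `p = 5` and `U` is unipotent up to sign
      have hkp : p < k - 1 := by
        by_contra hle
        push Not at hle
        exact he1 ⟨fun y hy => (hc8 y hy).2.resolve_right h3p, hle⟩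
      have hp5 : p = 5 := by
        have : p ≠ 4 := fun h => by subst h; exact absurd hp.out (by norm_num)
        have : p ≠ 6 := fun h => by subst h; exact absurd hp.out (by norm_num)
        omega
      have hn0 : ∀ y ∈ rts U1, False := fun y hy => by
        obtain ⟨j, hj⟩ := hk_even
        have hpos : 0 < Multiset.card (rts U1) := Multiset.card_pos_iff_exists_mem.2 ⟨y, hy⟩
        rw [card_rts] at hpos
        omega
      have := bound 2 2 dvd_rfl two_pos (fun y hy => (hn0 y hy).elim) hk9
      exact (S8_five hodd hp5).of_dvd (this.trans (cop _ 2 (Nat.coprime_primes Nat.prime_two hp.out |>.2 (Ne.symm hp2))))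
  exfalso
  push Not at hall
  obtain ⟨x, hxm, hxn⟩ := hall false
  obtain ⟨d, hx⟩ := hcls x hxm
  have hwx := hx.weight_le
  have hdp := hx.pos
  have hcx := hx.count_pos
  -- there is room for one class only
  have hcase : (∃ y ∈ rts U1, p < (rts U1).count y) ∨ p < k - 1 := by
    by_contra h
    push Not at h
    exact he1 h
  have hone : ∀ (y : AlgebraicClosure F) (e : ℕ), Cls U1 e y → e = 1 ∧ ∀ z ∈ rts U1, z ∈ cls F e y := by
    intro y e hy
    have hwy := hy.weight_le
    have hey := hy.pos
    have hcy := hy.count_pos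
    have he1' : e = 1 := by
      by_contra hne
      have hb : 2 * 2 * 1 ≤ 2 * e * (rts U1).count y := Nat.mul_le_mul (by omega) hcy
      rcases hcase with ⟨w, hw, hwc⟩ | hkb
      · obtain ⟨e', hw'⟩ := hcls w hw
        by_cases hwy' : w ∈ cls F e y
        · rw [hy.count_eq hwy'] at hwc
          have : 2 * 2 * 4 ≤ 2 * e * (rts U1).count y := Nat.mul_le_mul (by omega) (by omega)
          omega
        · have := hy.weight_two hw' hwy'
          have : 2 * 1 * 4 ≤ 2 * e' * (rts U1).count w := Nat.mul_le_mul (by have := hw'.pos; omega) (by omega)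
          omega
      · obtain ⟨j, hj⟩ := hk_even
        omega
    subst he1'
    refine ⟨rfl, fun z hz => ?_⟩
    by_contra hzn
    obtain ⟨e', hz'⟩ := hcls z hz
    have := hy.weight_two hz' hzn
    have := Nat.mul_le_mul (Nat.mul_le_mul_left 2 hz'.pos) hz'.count_pos
    rcases hcase with ⟨w, hw, hwc⟩ | hkb
    · obtain ⟨e'', hw'⟩ := hcls w hw
      by_cases hwy' : w ∈ cls F 1 y
      · rw [hy.count_eq hwy'] at hwc
        omega
      · have := hy.weight_two hw' hwy'
        have : 2 * 1 * 4 ≤ 2 * e'' * (rts U1).count w := Nat.mul_le_mul (by have := hw'.pos; omega) (by omega)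
        omega
    · obtain ⟨j, hj⟩ := hk_even
      omega
  obtain ⟨rfl, hsub⟩ := hone x d hx
  obtain ⟨s, hs⟩ := expo_of_per (rts_ne_zero hxm) hx.per
  obtain ⟨z, hzm, hzn⟩ := hall s
  exact hzn (hx.pow_eq_one hs (hsub z hzm))

end H33.Iso9
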