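import Mathlib
import Cfsg.Agent.H33.Iso9.Analysis

/-!
`Ω₉` and `V : Ω₈⁻` have the same element orders, in terms of isometries.
-/

set_option autoImplicit false

namespace H33.Iso9

open H43 Polynomial
open H44.Cls (Tri qc qc_mul qc_cases)

universe u

variable {F : Type u} [Field F]

theorem sum_comm_eqv (A B : Tri F (1 : F)) : (A.sum B).Eqv (B.sum A) :=
  let sw : (A.sum B).V ≃ₗ[F] (B.sum A).V := LinearEquiv.prodComm F A.V B.V
  ⟨sw, fun _ => rfl, fun _ _ => add_comm _ _⟩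

theorem unip_pow_finrank {T : Tri F (1 : F)} {n : ℕ} (h : (T.g - 1) ^ n = 0)
    (hn : Module.finrank F T.V ≤ n) : (T.g - 1) ^ Module.finrank F T.V = 0 := by
  refine LinearMap.ext fun x => ?_
  have hx : x ∈ LinearMap.ker ((T.g - 1) ^ n) := by rw [h]; simp
  rw [Module.End.ker_pow_eq_ker_pow_finrank_of_le hn] at hx
  exact hx

theorem geom_free {T : Tri F (1 : F)} (h1 : T.g.charpoly.eval 1 ≠ 0) {o : ℕ} (ho : T.g ^ o = 1) (x : T.V) :
    (∑ i ∈ Finset.range o, T.g ^ i) x = 0 := by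
  set S := ∑ i ∈ Finset.range o, T.g ^ i
  have hS : (T.g - 1) * S = 0 := by rw [mul_geom_sum, ho, sub_self]
  by_contra hne
  refine h1 ((Module.End.hasEigenvalue_iff_isRoot_charpoly T.g 1).1 ?_)
  refine Module.End.hasEigenvalue_of_hasEigenvector ⟨Module.End.mem_eigenspace_iff.2 ?_, hne⟩
  have := LinearMap.congr_fun hS x
  rw [Module.End.mul_apply, LinearMap.sub_apply, Module.End.one_apply, LinearMap.zero_apply, sub_eq_zero] at this
  rw [one_smul]
  exact this

variable [Fintype F]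

/-- Decomposition at the eigenvalue `1`. -/
theorem split_one {p : ℕ} [Fact p.Prime] [CharP F p] (h2 : (2 : F) ≠ 0) {T : Tri F (1 : F)} (hT : InOm T) :
    ∃ W U : Tri F (1 : F), T.Eqv (W.sum U) ∧ (W.g - 1) ^ Module.finrank F W.V = 0 ∧
      U.g.charpoly.eval 1 ≠ 0 ∧ InOm U ∧ Even (Module.finrank F U.V) ∧
      Module.finrank F W.V + Module.finrank F U.V = Module.finrank F T.V := by
  obtain ⟨W, U, he, hW, hU⟩ := exists_fit T (c := (1 : F)) (one_mul 1)
  rw [one_smul] at hW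
  have hdim : Module.finrank F W.V + Module.finrank F U.V = Module.finrank F T.V := by
    rw [← finrank_sum, ← finrank_eqv he]
  have hW' := unip_pow_finrank hW (by omega)
  have hUO : InOm U := (hT.eqv h2 (he.trans (sum_comm_eqv W U))).of_sum h2 (inOm_unip (p := p) h2 hW')
  refine ⟨W, U, he, hW', hU, hUO, ?_, hdim⟩
  exact (neg_one_pow_eq_one_iff_even (fun h => h2 (by linear_combination -h))).1
    ((det_free hU).symm.trans hUO.1)

/-- From `V : Ω₈⁻` to `Ω₉`. -/
theorem dirA {p : ℕ} [hp : Fact p.Prime] [CharP F p] (h2 : (2 : F) ≠ 0) {T : Tri F (1 : F)}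
    (hd : Module.finrank F T.V = 8) (hT : InOm T) (v : T.V) : S9 F (ordv p T v) := by
  set o := orderOf T.g with ho
  by_cases hv : (∑ i ∈ Finset.range o, T.g ^ i) v = 0
  · obtain ⟨R, hR, -, hR1⟩ := exists_trivial (F := F) h2 (r := 1) one_pos 1 (Or.inl rfl)
    refine ⟨T.sum R, by rw [finrank_sum, hd, hR], hT.sum h2 (inOm_of_odd h2 odd_one (by rw [pow_one, hR1])), ?_⟩
    rw [ordv, if_pos hv, orderOf_sum]
    exact Nat.dvd_lcm_left _ _
  obtain ⟨W, U, he, hW, hU, hUO, hUev, hdim⟩ := split_one (p := p) h2 hT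
  obtain ⟨e, hWo⟩ := orderOf_unip (p := p) hW
  have hoe : o = Nat.lcm (p ^ e) (orderOf U.g) := by rw [ho, orderOf_eqv he, orderOf_sum, hWo]
  obtain ⟨r, hr⟩ : p ^ e ∣ o := hoe ▸ Nat.dvd_lcm_left _ _
  have hWpe : W.g ^ p ^ e = 1 := hWo ▸ pow_orderOf_eq_one W.g
  have hUo : U.g ^ o = 1 := orderOf_dvd_iff_pow_eq_one.1 (hoe ▸ Nat.dvd_lcm_right _ _)
  obtain ⟨φ, hφg, -⟩ := he
  have hpow : ∀ i x, φ ((T.g ^ i) x) = ((W.sum U).g ^ i) (φ x) := by
    intro i
    induction i with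
    | zero => intro x; rfl
    | succ i ih =>
      intro x
      rw [pow_succ', pow_succ', Module.End.mul_apply, Module.End.mul_apply, hφg, ih]
  have hWne : r • ((W.g - 1) ^ (p ^ e - 1)) (pr1 W U (φ v)) ≠ 0 := by
    intro h0
    refine hv (φ.injective ?_)
    rw [LinearMap.sum_apply, map_sum, map_zero]
    simp only [hpow, sum_pow_apply]
    refine sum_ext ?_ ?_
    · rw [map_sum, map_zero]
      simp only [pr1_mk]
      rw [← LinearMap.sum_apply, hr, geom_mul hWpe, geom_char_pow, LinearMap.smul_apply]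
      exact h0
    · rw [map_sum, map_zero]
      simp only [pr2_mk]
      rw [← LinearMap.sum_apply]
      exact geom_free hU hUo _
  have hpr : ¬ p ∣ r := fun h => hWne (by
    rw [← Nat.cast_smul_eq_nsmul F, (CharP.cast_eq_zero_iff F p r).2 h, zero_smul])
  have hlt : p ^ e ≤ Module.finrank F W.V := by
    by_contra hcon
    push Not at hcon
    exact hWne (by rw [pow_eq_zero_of_le (by omega) hW, LinearMap.zero_apply, smul_zero])
  obtain ⟨j, hj⟩ : Even (Module.finrank F W.V) := by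
    obtain ⟨i, hi⟩ := hUev
    exact ⟨4 - i, by omega⟩
  obtain ⟨Y, hY, hY0, hY1⟩ := exists_regular (F := F) h2 j
  obtain ⟨e', hYo⟩ := orderOf_unip (p := p) hY0
  have hee : e < e' := by
    by_contra hle
    push Not at hle
    have hYpe : Y.g ^ p ^ e = 1 := orderOf_dvd_iff_pow_eq_one.1 (hYo ▸ pow_dvd_pow p hle)
    refine hY1 (pow_eq_zero_of_le (show p ^ e ≤ 2 * j by omega) ?_)
    have := sub_pow_aeval (p := p) Y.g (1 : F) e
    rwa [one_smul, one_pow, one_smul, hYpe, sub_self] at this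
  refine ⟨U.sum Y, by rw [finrank_sum, hY]; omega, hUO.sum h2 (inOm_unip (p := p) h2 hY0), ?_⟩
  rw [ordv, if_neg hv, ← ho, orderOf_sum, hYo, hr, ← mul_assoc, ← pow_succ']
  have hcop : Nat.Coprime p r := hp.out.coprime_iff_not_dvd.2 hpr
  refine (Nat.Coprime.pow_left (e + 1) hcop).mul_dvd_of_dvd_of_dvd
    ((pow_dvd_pow p hee).trans (Nat.dvd_lcm_right _ _)) (Dvd.dvd.trans ?_ (Nat.dvd_lcm_left _ _))
  refine (Nat.Coprime.pow_left e hcop).symm.dvd_of_dvd_mul_left ?_
  have : r ∣ o := hr ▸ dvd_mul_left _ _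
  exact this.trans (hoe ▸ Nat.lcm_dvd_mul _ _)

/-- From `Ω₉` to `V : Ω₈⁻`. -/
theorem dirB {p : ℕ} [hp : Fact p.Prime] [CharP F p] (hodd : Odd (Fintype.card F)) {T : Tri F (1 : F)}
    (hd : Module.finrank F T.V = 9) (hT : InOm T) : S8 p F (orderOf T.g) := by
  have h2 := H43.two_ne_zero_of_odd_card hodd
  obtain ⟨W, U, he, hW, hU, hUO, hUev, hdim⟩ := split_one (p := p) h2 hT
  obtain ⟨E, hWo⟩ := orderOf_unip (p := p) hW
  rw [orderOf_eqv he, orderOf_sum, hWo]
  rw [hd] at hdim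
  rcases E with _ | f
  · rw [pow_zero, Nat.lcm_one_left]
    by_cases hu : Module.finrank F U.V < 8
    · exact S8_of_small h2 p hUO hu
    have hu8 : Module.finrank F U.V = 8 := by
      obtain ⟨i, hi⟩ := hUev
      omega
    rcases qc_cases (U.gram (Module.finBasis F U.V)).det with hc | hc
    · exact plus_core hodd hu8 hU hc hUO
    · exact ⟨U, 0, hu8, hc, hUO, by rw [ordv, if_pos (map_zero _)]⟩
  have hne : W.g ^ p ^ f ≠ 1 := fun h => by
    have := orderOf_dvd_of_pow_eq_one h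
    rw [hWo, Nat.pow_dvd_pow_iff_le_right hp.out.one_lt] at this
    omega
  have hlt : p ^ f < Module.finrank F W.V := by
    by_contra hcon
    push Not at hcon
    exact hne (unip_pow hW hcon)
  have hpodd : Odd (p ^ f) :=
    (hp.out.odd_of_ne_two fun h => h2 (by subst h; exact_mod_cast CharP.cast_eq_zero F 2)).pow
  obtain ⟨i, hi⟩ := hpodd
  obtain ⟨j, hj⟩ := hUev
  rw [Nat.lcm_comm]
  exact S8_of_trans h2 hUO f (by omega)

end H33.Iso9
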