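import Mathlib
import Cfsg.Prelude.Def_Classical
import Cfsg.Agent.H43.Bridge
import Cfsg.Agent.H43.Disc
import Cfsg.Agent.H43.Simple
import Cfsg.Agent.H33.Iso9.Main

/-!
Translation between matrix groups and isometries of bilinear spaces.
-/

set_option autoImplicit false

namespace H33.Iso9

open H43 Polynomial
open H44.Cls (Tri qc qc_mul qc_cases)

universe u

variable {F : Type u} [Field F] {ι : Type} [Fintype ι] [DecidableEq ι]
variable {Q : QuadraticForm F (ι → F)}

theorem spinor_congr {V : Type*} [AddCommGroup V] [Module F V] [FiniteDimensional F V] {Q₁ Q₂ : QuadraticForm F V} (h : Q₁ = Q₂)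
    (a : orthGroup Q₁) (b : orthGroup Q₂) (hab : ∀ x, a.1 x = b.1 x) : spinor a = spinor b := by
  subst h
  rw [orth_ext hab]

/-- The bilinear space of an element of an orthogonal group. -/
noncomputable def triOf (hQ : (polB Q).Nondegenerate) (a : orthGroup Q) : Tri F (1 : F) where
  V := ι → F
  B := polB Q
  g := (a.1 : (ι → F) →ₗ[F] ι → F)
  sym x y := by rw [one_mul, polB_comm]
  nd x hx := eq_zero_of_polB_eq_zero hQ hx
  iso x y := orth_polB_map a x y

/-- The discriminant sign of a standard form. -/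
noncomputable def chiQ (Q : QuadraticForm F (ι → F)) : ℤ :=
  qc (Matrix.of fun i j => polB Q (Pi.single i 1) (Pi.single j 1)).det

theorem triOf_chi [Finite F] (hQ : (polB Q).Nondegenerate) (a : orthGroup Q) :
    (triOf hQ a).chi = chiQ Q := by
  let b : Module.Basis ι F (triOf hQ a).V := Pi.basisFun F ι
  rw [(triOf hQ a).chi_eq b, chiQ]
  congr 2
  ext i j
  show polB Q (Pi.basisFun F ι i) (Pi.basisFun F ι j) = _
  rw [Pi.basisFun_apply, Pi.basisFun_apply]
  rfl

theorem inOm_triOf [Finite F] (h2 : (2 : F) ≠ 0) (hn : 2 ≤ Fintype.card ι) (hQ : (polB Q).Nondegenerate)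
    (a : orthGroup Q) : InOm (triOf hQ a) ↔ a ∈ commutator (orthGroup Q) := by
  have hq : (qf (triOf hQ a) : QuadraticForm F (ι → F)) = Q := QuadraticMap.ext fun (x : ι → F) => by
    show (2 : F)⁻¹ * polB Q x x = Q x
    rw [polB_self, ← mul_assoc, inv_mul_cancel₀ h2, one_mul]
  have hs : spinor (og (triOf hQ a)) = spinor a :=
    @spinor_congr F _ (ι → F) _ _ (Module.Finite.pi) _ _ hq (og (triOf hQ a)) a fun x => rfl
  rw [mem_commutator_iff_odd hQ h2 (by rw [Module.finrank_fintype_fun_eq_card]; exact hn), InOm, hs,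
    Units.ext_iff, coe_detHom, Units.val_one]
  rfl

/-- The linear map of a matrix isometry. -/
noncomputable def endHom (Q : QuadraticForm F (ι → F)) :
    Cfsg.isometryGroup F ⇑Q →* Module.End F (ι → F) where
  toFun g := ((toOrth Q g).1 : (ι → F) →ₗ[F] ι → F)
  map_one' := by rw [map_one]; rfl
  map_mul' a b := by rw [map_mul]; rfl

theorem endHom_injective (Q : QuadraticForm F (ι → F)) : Function.Injective (endHom Q) := fun a b h =>
  (toOrth Q).injective (orth_ext fun x => LinearMap.congr_fun h x)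

theorem orderOf_endHom (g : Cfsg.Omega F ⇑Q) : orderOf (endHom Q g.1) = orderOf g := by
  rw [orderOf_injective (endHom Q) (endHom_injective Q), Subgroup.orderOf_coe]

/-- An isometry of the same dimension and discriminant comes from the matrix group. -/
theorem exists_matrix [Finite F] (h2 : (2 : F) ≠ 0) (hn : 2 ≤ Fintype.card ι) (hQ : (polB Q).Nondegenerate)
    {T : Tri F (1 : F)} (hd : Module.finrank F T.V = Fintype.card ι) (hc : T.chi = chiQ Q) (hT : InOm T) :
    ∃ (g : Cfsg.Omega F ⇑Q) (e : T.V ≃ₗ[F] (ι → F)), ∀ x, e (T.g x) = endHom Q g.1 (e x) := by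
  obtain ⟨e, he⟩ := H44.Cls.exists_isometry h2 T (triOf hQ 1)
    (by rw [hd]; exact (Module.finrank_fintype_fun_eq_card F).symm) (by rw [triOf_chi, hc])
  let e' : T.V ≃ₗ[F] (ι → F) := e
  have he' : ∀ x y, polB Q (e' x) (e' y) = T.B x y := he
  have hq : ∀ x, Q (e' x) = (2 : F)⁻¹ * T.B x x := fun x => by
    rw [← he', polB_self, ← mul_assoc, inv_mul_cancel₀ h2, one_mul]
  let a : orthGroup Q := ⟨e'.symm.trans (T.gE.trans e'), fun x => by
    show Q (e' (T.gE (e'.symm x))) = Q x
    obtain ⟨y, rfl⟩ := e'.surjective x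
    rw [e'.symm_apply_apply, hq, hq]
    show _ * T.B (T.g y) (T.g y) = _
    rw [T.iso]⟩
  have heq : T.Eqv (triOf hQ a) := by
    refine ⟨e', fun x => ?_, he'⟩
    show e' (T.g x) = e' (T.gE (e'.symm (e' x)))
    rw [e'.symm_apply_apply]; rfl
  have ha := (inOm_triOf h2 hn hQ a).1 (hT.eqv h2 heq)
  refine ⟨⟨(toOrth Q).symm a, (mem_Omega_iff _).2 (by rwa [MulEquiv.apply_symm_apply])⟩, e', fun x => ?_⟩
  show _ = ((toOrth Q ((toOrth Q).symm a)).1 : (ι → F) →ₗ[F] ι → F) (e' x)
  rw [MulEquiv.apply_symm_apply]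
  show e' (T.g x) = e' (T.gE (e'.symm (e' x)))
  rw [e'.symm_apply_apply]; rfl

omit [Fintype ι] [DecidableEq ι] in
theorem orderOf_conj {T : Tri F (1 : F)} {f : Module.End F (ι → F)} (e : T.V ≃ₗ[F] (ι → F))
    (he : ∀ x, e (T.g x) = f (e x)) :
    orderOf T.g = orderOf f ∧ ∀ n x, e ((T.g ^ n) x) = (f ^ n) (e x) := by
  have hk : ∀ n x, e ((T.g ^ n) x) = (f ^ n) (e x) := by
    intro n
    induction n with
    | zero => intro x; rfl
    | succ n ih => intro x; rw [pow_succ', pow_succ', Module.End.mul_apply, Module.End.mul_apply, he, ih]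
  refine ⟨orderOf_eq_orderOf_iff.2 fun k => ?_, hk⟩
  constructor <;> intro hh <;> refine LinearMap.ext fun x => ?_
  · obtain ⟨y, rfl⟩ := e.surjective x
    rw [← hk, hh]; rfl
  · apply e.injective
    rw [hk, hh]; rfl

/-- The identification of `triOf` with the column space. -/
noncomputable def triId (hQ : (polB Q).Nondegenerate) (a : orthGroup Q) :
    (triOf hQ a).V ≃ₗ[F] (ι → F) := LinearEquiv.refl F (ι → F)

theorem triOf_data (hQ : (polB Q).Nondegenerate) (g : Cfsg.Omega F ⇑Q) (x : (triOf hQ (toOrth Q g.1)).V) :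
    orderOf (triOf hQ (toOrth Q g.1)).g = orderOf g ∧
      ((∑ i ∈ Finset.range (orderOf (triOf hQ (toOrth Q g.1)).g), (triOf hQ (toOrth Q g.1)).g ^ i) x = 0 ↔
        (∑ i ∈ Finset.range (orderOf g), endHom Q g.1 ^ i) (triId hQ (toOrth Q g.1) x) = 0) := by
  obtain ⟨ho, hk⟩ := orderOf_conj (T := triOf hQ (toOrth Q g.1)) (f := endHom Q g.1)
    (triId hQ (toOrth Q g.1)) fun _ => rfl
  rw [orderOf_endHom] at ho
  refine ⟨ho, ?_⟩
  rw [← (triId hQ (toOrth Q g.1)).map_eq_zero_iff, LinearMap.sum_apply, map_sum, LinearMap.sum_apply, ho]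
  simp only [hk]

theorem chiQ_qMinus_three [Fintype F] (hodd : Odd (Fintype.card F)) {a b : F}
    (hab : ∀ z₁ z₂ : F, z₁ ^ 2 + a * z₁ * z₂ + b * z₂ ^ 2 = 0 → z₁ = 0 ∧ z₂ = 0) :
    chiQ (qMinus 3 F a b) = -1 := by
  have h2 := two_ne_zero_of_odd_card hodd
  refine (qc_cases _).resolve_left fun h => ?_
  rw [qc_eq_one_iff, gram_qMinus, Matrix.det_fromBlocks_zero₂₁, det_swap_blocks, Matrix.det_fin_two_of] at h
  obtain ⟨r, hr⟩ := h
  obtain ⟨-, h0⟩ := hab ((r - a) / 2) 1 (by field_simp; linear_combination -hr)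
  exact one_ne_zero h0

variable {G : Type*} [Group G] {V : Type*} [AddCommGroup V] [Module F V]

/-- Orders in a split extension of a vector space by a group of linear maps. -/
theorem orderOf_semidirect {p : ℕ} [hp : Fact p.Prime] [CharP F p] (φ : G →* MulAut (Multiplicative V))
    (ψ : G →* Module.End F V)
    (hφ : ∀ (h : G) (v : Multiplicative V), Multiplicative.toAdd (φ h v) = ψ h (Multiplicative.toAdd v))
    (hfin : ∀ h : G, IsOfFinOrder h) (x : Multiplicative V ⋊[φ] G) :
    (((∑ i ∈ Finset.range (orderOf x.right), ψ x.right ^ i) (Multiplicative.toAdd x.left) = 0 →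
      orderOf x = orderOf x.right) ∧
    ((∑ i ∈ Finset.range (orderOf x.right), ψ x.right ^ i) (Multiplicative.toAdd x.left) ≠ 0 →
      orderOf x = p * orderOf x.right)) := by
  set o := orderOf x.right with ho
  have ho0 : 0 < o := (hfin x.right).orderOf_pos
  have hpow : ∀ n, (x ^ n).right = x.right ^ n ∧ Multiplicative.toAdd (x ^ n).left =
      (∑ i ∈ Finset.range n, ψ x.right ^ i) (Multiplicative.toAdd x.left) := by
    intro n
    induction n with
    | zero => simp
    | succ n ih =>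
      rw [pow_succ]
      refine ⟨by rw [SemidirectProduct.mul_right, ih.1, pow_succ], ?_⟩
      rw [SemidirectProduct.mul_left, toAdd_mul, hφ, ih.2, ih.1, map_pow, Finset.sum_range_succ,
        LinearMap.add_apply]
  have hdvd : o ∣ orderOf x := orderOf_map_dvd SemidirectProduct.rightHom x
  have hpo : x ^ (o * p) = 1 := by
    refine SemidirectProduct.ext (Multiplicative.toAdd.injective ?_) ?_
    · rw [(hpow _).2, geom_mul (by rw [← map_pow, pow_orderOf_eq_one, map_one]), LinearMap.smul_apply,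
        ← Nat.cast_smul_eq_nsmul F, CharP.cast_eq_zero, zero_smul]
      rfl
    · rw [(hpow _).1, pow_mul, pow_orderOf_eq_one, one_pow]
      rfl
  refine ⟨fun h => Nat.dvd_antisymm ?_ hdvd, fun h => ?_⟩
  · refine orderOf_dvd_of_pow_eq_one (SemidirectProduct.ext (Multiplicative.toAdd.injective ?_) ?_)
    · rw [(hpow _).2, h]; rfl
    · rw [(hpow _).1, pow_orderOf_eq_one]; rfl
  · obtain ⟨c, hc⟩ := hdvd
    have hcp : c ∣ p := Nat.dvd_of_mul_dvd_mul_left ho0 (hc ▸ orderOf_dvd_of_pow_eq_one hpo)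
    rcases (Nat.dvd_prime hp.out).1 hcp with rfl | rfl
    · refine absurd ?_ h
      have := pow_orderOf_eq_one x
      rw [hc, mul_one] at this
      rw [← (hpow o).2, this]
      rfl
    · rw [hc, mul_comm]

/-- Two finite groups with divisibility both ways have the same element orders. -/
theorem range_orderOf_eq {A B : Type*} [Group A] [Group B] [Finite A] [Finite B]
    (h : ∀ x : A, ∃ y : B, orderOf x ∣ orderOf y) (h' : ∀ y : B, ∃ x : A, orderOf y ∣ orderOf x) :
    Set.range (orderOf : A → ℕ) = Set.range (orderOf : B → ℕ) := by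
  refine Set.Subset.antisymm ?_ ?_
  · rintro _ ⟨x, rfl⟩
    obtain ⟨y, hy⟩ := h x
    exact ⟨y ^ (orderOf y / orderOf x), orderOf_pow_orderOf_div (orderOf_pos y).ne' hy⟩
  · rintro _ ⟨y, rfl⟩
    obtain ⟨x, hx⟩ := h' y
    exact ⟨x ^ (orderOf x / orderOf y), orderOf_pow_orderOf_div (orderOf_pos x).ne' hx⟩

end H33.Iso9
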